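import Groth.Agent.Sga3.H811.Glob

/-!
# The rank one commutation formula over any base: existence and uniqueness
-/

set_option autoImplicit false
universe u
open CategoryTheory MonoidalCategory CartesianMonoidalCategory MonObj GrpObj AlgebraicGeometry Limits

namespace Groth.Agent.Sga3.H811.Final

open Groth.Agent.Sga3B Groth.Agent.Sga3B.DSPts Groth.Agent.Sga3B.GaPts Groth.Agent.Sga3B.RedIso
open Groth.Agent.Sga3.H811.Pts Groth.Agent.Sga3.H811.Lift Groth.Agent.Sga3.H811.Sys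
open Groth.Agent.Sga3.H811.Mk Groth.Agent.Sga3.H811.Fld Groth.Agent.Sga3.H811.Unit
open Groth.Agent.Sga3.H811.Glob

variable {S : Scheme.{u}} {G T : Over S} [GrpObj G] [GrpObj T] {i : T ⟶ G} {α : T ⟶ Red.Gm S}
  {pp pm : Red.Ga S ⟶ G} (H : RHyp i α pp pm) (hnc : NC pp pm)

/-- The conclusions of the rank one theorem for a pair `(a, α*)`. -/
def Good (i : T ⟶ G) (α : T ⟶ Red.Gm S) (pp pm : Red.Ga S ⟶ G)
    (q : (𝟙_ (Over S) ⟶ Red.Gm S) × (Red.Gm S ⟶ T)) : Prop :=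
  IsMonHom q.2 ∧ q.2 ≫ α = (𝟙 (Red.Gm S)) ^ 2 ∧
      ∀ (X : Over S) (x y : X ⟶ Red.Ga S),
        ((∃ w : X ⟶ (Red.Ga S ⊗ T) ⊗ Red.Ga S, w ≫ cell i pp pm = (x ≫ pp) * (y ≫ pm)) ↔
          IsUnit (1 + Red.gmFn (toUnit X ≫ q.1) * Red.gaFn x * Red.gaFn y)) ∧
        (IsUnit (1 + Red.gmFn (toUnit X ≫ q.1) * Red.gaFn x * Red.gaFn y) →
          ∃ (x' y' : X ⟶ Red.Ga S) (z : X ⟶ Red.Gm S),
            Red.gmFn z = 1 + Red.gmFn (toUnit X ≫ q.1) * Red.gaFn x * Red.gaFn y ∧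
            Red.gaFn x' * Red.gmFn z = Red.gaFn x ∧ Red.gaFn y' * Red.gmFn z = Red.gaFn y ∧
            (x ≫ pp) * (y ≫ pm) = (y' ≫ pm) * (z ≫ q.2 ≫ i) * (x' ≫ pp))

omit [GrpObj T] in
lemma exists_w_iff {X : Over S} (x y : X ⟶ Red.Ga S) :
    (∃ w : X ⟶ (Red.Ga S ⊗ T) ⊗ Red.Ga S, w ≫ cell i pp pm = (x ≫ pp) * (y ≫ pm)) ↔
      ∃ a b t, DecX i pp pm X (Red.gaFn x) (Red.gaFn y) a b t := by
  constructor
  · rintro ⟨w, hw⟩
    refine ⟨Red.gaFn (w ≫ fst _ _ ≫ fst _ _), Red.gaFn (w ≫ snd _ _), w ≫ fst _ _ ≫ snd _ _, ?_⟩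
    unfold DecX
    rw [gaPt_gaFn, gaPt_gaFn, gaPt_gaFn, gaPt_gaFn, ← comp_cell, hw]
  · rintro ⟨a, b, t, h⟩
    unfold DecX at h
    rw [gaPt_gaFn, gaPt_gaFn] at h
    exact ⟨lift (lift (gaPt X a) t) (gaPt X b), by rw [lift_cell, h]⟩

include H hnc in
theorem exists_good : ∃ q, Good i α pp pm q := by
  obtain ⟨q1, hq1⟩ := exists_q1 H hnc
  obtain ⟨q2, hq2⟩ := exists_q2 H hnc
  have hmi := H.mi
  have hma := H.ma
  have hmul : ∀ (X : Over S) (x y : X ⟶ Red.Gm S), (x * y) ≫ q2 = (x ≫ q2) * (y ≫ q2) := by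
    intro X x y
    apply AffYoneda.hom_ext
    intro R s g
    rw [← Category.assoc, MonObj.comp_mul, hq2, MonObj.comp_mul, ← Category.assoc, ← Category.assoc,
      hq2, hq2]
    unfold cocG
    have h1 : uOf s ((g ≫ x) * (g ≫ y)) = uOf s (g ≫ x) * uOf s (g ≫ y) := by
      apply Units.ext
      apply (f0 s).injective
      rw [f0_uOf, Units.val_mul, map_mul, f0_uOf, f0_uOf, gmFn_mul]
    rw [h1, ← MonObj.comp_mul]
    congr 1
    exact (sys H s).coc_mul (isUnit_a H hnc s) _ _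
  have hA : ∀ (X : Over S) (R : CommRingCat.{u}) (s : Spec R ⟶ S) (g : Over.mk s ⟶ X),
      g.left.appTop (Red.gmFn (toUnit X ≫ q1)) = aG H hnc s := by
    intro X R s g
    rw [← gmFn_comp, ← Category.assoc, hq1, gmFn_gmPt]
  refine ⟨(q1, q2), Groth.Agent.Sga3B.Pts.isMonHom_of_points _ hmul, ?_, ?_⟩
  · -- `α ∘ α* = 2`
    apply AffYoneda.hom_ext
    intro R s g
    apply gmFn_injective
    have h1 : g ≫ (𝟙 (Red.Gm S)) ^ 2 = g ^ 2 := by
      rw [MonObj.comp_pow, Category.comp_id]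
    rw [h1, gmFn_pow, ← Category.assoc, hq2, cocG, Category.assoc, gmFn_comp]
    have h2 := congrArg Units.val ((sys H s).ch_coc (isUnit_a H hnc s) (uOf s g))
    have h3 : fe s R (((sys H s).ch ((sys H s).coc (isUnit_a H hnc s) (uOf s g)) : Rˣ) : R) =
        Red.gmFn (((sys H s).coc (C := R) (isUnit_a H hnc s) (uOf s g) : tB s R ⟶ T) ≫ α) :=
      fe_chHom H s _
    rw [← h3, j0_fe, h2, Units.val_pow_eq_pow_val, map_pow, f0_uOf]
  · intro X x y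
    have hform : ∀ z : Γ(X.left, ⊤)ˣ, 1 + Red.gmFn (toUnit X ≫ q1) * Red.gaFn x * Red.gaFn y = z →
        DecX i pp pm X (Red.gaFn x) (Red.gaFn y) ((z⁻¹ : Γ(X.left, ⊤)ˣ) * Red.gaFn y)
          ((z⁻¹ : Γ(X.left, ⊤)ˣ) * Red.gaFn x) (gmPt X z ≫ q2) := by
      intro z hz
      unfold DecX
      apply AffYoneda.hom_ext
      intro R s g
      let zs : Γ((Over.mk s).left, ⊤)ˣ := Units.map (g.left.appTop.hom : Γ(X.left, ⊤) →* _) z
      have hzs : (zs : Γ((Over.mk s).left, ⊤)) = g.left.appTop z := rfl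
      have hzs' : ((zs⁻¹ : Γ((Over.mk s).left, ⊤)ˣ) : Γ((Over.mk s).left, ⊤)) =
        g.left.appTop ((z⁻¹ : Γ(X.left, ⊤)ˣ) : Γ(X.left, ⊤)) := rfl
      have h1 := dec_cocG H hnc s (x := g.left.appTop (Red.gaFn x)) (y := g.left.appTop (Red.gaFn y)) zs (by
        rw [hzs, ← hz, map_add, map_one, map_mul, map_mul, hA])
      unfold DecX at h1
      have h2 : g ≫ gmPt X z = gmPt (Over.mk s) zs := by
        apply gmFn_injective
        rw [gmFn_comp, gmFn_gmPt, gmFn_gmPt]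
        exact hzs.symm
      simp only [MonObj.comp_mul]
      rw [← Category.assoc g, ← Category.assoc g, ← Category.assoc g, ← Category.assoc g,
        ← Category.assoc g, ← Category.assoc g,
        comp_gaPt, comp_gaPt, comp_gaPt, comp_gaPt, h2, hq2, map_mul, map_mul]
      exact h1
    have hz : ∀ z : Γ(X.left, ⊤)ˣ, ∀ c : Γ(X.left, ⊤), (z⁻¹ : Γ(X.left, ⊤)ˣ) * c * z = c := by
      intro z c
      rw [mul_right_comm, Units.inv_mul, _root_.one_mul]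
    refine ⟨?_, ?_⟩
    · rw [exists_w_iff]
      constructor
      · rintro ⟨a, b, t, h⟩
        apply isUnit_of_affine
        intro R s g
        rw [map_add, map_one, map_mul, map_mul]
        have h1 := isUnit_of_good H hnc s (h.nat g)
        rw [← hA X R s g] at h1
        exact h1
      · rintro ⟨z, hz⟩
        exact ⟨_, _, _, hform z hz.symm⟩
    · rintro ⟨z, hz'⟩
      have h1 := hform z hz'.symm
      refine ⟨gaPt X ((z⁻¹ : Γ(X.left, ⊤)ˣ) * Red.gaFn x), gaPt X ((z⁻¹ : Γ(X.left, ⊤)ˣ) * Red.gaFn y),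
        gmPt X z, ?_, ?_, ?_, ?_⟩
      · rw [gmFn_gmPt, hz']
      · rw [gaFn_gaPt, gmFn_gmPt, hz]
      · rw [gaFn_gaPt, gmFn_gmPt, hz]
      · unfold DecX at h1
        rw [gaPt_gaFn, gaPt_gaFn] at h1
        rw [h1, Category.assoc]

omit hnc in
include H in
theorem good_unique {q q' : (𝟙_ (Over S) ⟶ Red.Gm S) × (Red.Gm S ⟶ T)} (hq : Good i α pp pm q)
    (hq' : Good i α pp pm q') : q = q' := by
  have := H.mono_cell
  obtain ⟨-, -, h⟩ := hq
  obtain ⟨-, -, h'⟩ := hq'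
  -- comparison of two decompositions
  have key : ∀ {X : Over S} {x x₁ x₂ y y₁ y₂ : X ⟶ Red.Ga S} {t₁ t₂ : X ⟶ T},
      (x ≫ pp) * (y ≫ pm) = (y₁ ≫ pm) * (t₁ ≫ i) * (x₁ ≫ pp) →
      (x ≫ pp) * (y ≫ pm) = (y₂ ≫ pm) * (t₂ ≫ i) * (x₂ ≫ pp) → y₁ = y₂ ∧ t₁ = t₂ := by
    intro X x x₁ x₂ y y₁ y₂ t₁ t₂ e1 e2
    have e3 := e1.symm.trans e2
    rw [← lift_cell, ← lift_cell, cancel_mono] at e3
    have h2 := congrArg (fun k => k ≫ fst _ _ ≫ fst _ _) e3
    have h3 := congrArg (fun k => k ≫ fst _ _ ≫ snd _ _) e3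
    simp only [lift_fst_assoc, lift_fst, lift_snd] at h2 h3
    exact ⟨h2, h3⟩
  have h1 : q.1 = q'.1 := by
    apply AffYoneda.hom_ext
    intro R s g
    apply gmFn_injective
    obtain ⟨r, hr⟩ := (f0 s).surjective (Red.gmFn (g ≫ q.1))
    obtain ⟨r', hr'⟩ := (f0 s).surjective (Red.gmFn (g ≫ q'.1))
    let X := tB s (DualNumber R)
    let p : X ⟶ Over.mk s := tMap s (Algebra.ofId R (DualNumber R)) ≫ j1 s
    have hp : ∀ c : R, p.left.appTop (f0 s c) = fe s (DualNumber R) (algebraMap R (DualNumber R) c) := by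
      intro c
      exact fe_nat s (Algebra.ofId R (DualNumber R)) c
    have e1 : Red.gmFn (toUnit X ≫ q.1) = fe s (DualNumber R) (algebraMap R (DualNumber R) r) := by
      rw [← hp, hr, ← gmFn_comp, ← Category.assoc, toUnit_unique (toUnit X) (p ≫ g)]
    have e1' : Red.gmFn (toUnit X ≫ q'.1) = fe s (DualNumber R) (algebraMap R (DualNumber R) r') := by
      rw [← hp, hr', ← gmFn_comp, ← Category.assoc, toUnit_unique (toUnit X) (p ≫ g)]
    have hu : ∀ c : R, IsUnit (1 + algebraMap R (DualNumber R) c * DualNumber.eps) := by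
      intro c
      refine IsUnit.of_mul_eq_one (1 - algebraMap R (DualNumber R) c * DualNumber.eps) ?_
      linear_combination (- (algebraMap R (DualNumber R) c) ^ 2) * (DualNumber.eps_mul_eps (R := R))
    have e2 : 1 + Red.gmFn (toUnit X ≫ q.1) * Red.gaFn (gaPt X (fe s (DualNumber R) DualNumber.eps)) *
        Red.gaFn (gaPt X 1) = fe s (DualNumber R) (1 + algebraMap R (DualNumber R) r * DualNumber.eps) := by
      rw [gaFn_gaPt, gaFn_gaPt, e1, map_add, map_one, map_mul, _root_.mul_one]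
    have e2' : 1 + Red.gmFn (toUnit X ≫ q'.1) * Red.gaFn (gaPt X (fe s (DualNumber R) DualNumber.eps)) *
        Red.gaFn (gaPt X 1) = fe s (DualNumber R) (1 + algebraMap R (DualNumber R) r' * DualNumber.eps) := by
      rw [gaFn_gaPt, gaFn_gaPt, e1', map_add, map_one, map_mul, _root_.mul_one]
    obtain ⟨x₁, y₁, z₁, hz₁, -, hy₁, d₁⟩ := (h X (gaPt X (fe s (DualNumber R) DualNumber.eps))
      (gaPt X 1)).2 (by rw [e2]; exact (hu r).map _)
    obtain ⟨x₂, y₂, z₂, hz₂, -, hy₂, d₂⟩ := (h' X (gaPt X (fe s (DualNumber R) DualNumber.eps))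
      (gaPt X 1)).2 (by rw [e2']; exact (hu r').map _)
    rw [← Category.assoc] at d₁ d₂
    obtain ⟨k1, -⟩ := key d₁ d₂
    rw [k1, hz₁, e2, gaFn_gaPt] at hy₁
    rw [hz₂, e2', gaFn_gaPt] at hy₂
    have k2 : IsUnit (Red.gaFn y₂) := IsUnit.of_mul_eq_one _ hy₁
    have k3 := k2.mul_left_cancel (hy₁.trans hy₂.symm)
    have k4 := (fe s (DualNumber R)).injective k3
    have k5 := congrArg TrivSqZeroExt.snd k4
    simp [TrivSqZeroExt.algebraMap_eq_inl] at k5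
    rw [← hr, ← hr', k5]
  have h2 : q.2 = q'.2 := by
    let X := Red.Gm S
    let z : X ⟶ Red.Gm S := 𝟙 _
    obtain ⟨a, ha⟩ := isUnit_gmFn (toUnit X ≫ q.1)
    have e1 : 1 + Red.gmFn (toUnit X ≫ q.1) * Red.gaFn (gaPt X ((a⁻¹ : Γ(X.left, ⊤)ˣ) * (Red.gmFn z - 1))) *
        Red.gaFn (gaPt X 1) = Red.gmFn z := by
      rw [gaFn_gaPt, gaFn_gaPt, ← ha, Units.mul_inv_cancel_left, _root_.mul_one]
      ring
    have e1' : 1 + Red.gmFn (toUnit X ≫ q'.1) *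
        Red.gaFn (gaPt X ((a⁻¹ : Γ(X.left, ⊤)ˣ) * (Red.gmFn z - 1))) *
        Red.gaFn (gaPt X 1) = Red.gmFn z := by
      rw [← h1]
      exact e1
    obtain ⟨x₁, y₁, z₁, hz₁, -, hy₁, d₁⟩ := (h X (gaPt X ((a⁻¹ : Γ(X.left, ⊤)ˣ) * (Red.gmFn z - 1)))
      (gaPt X 1)).2 (by rw [e1]; exact isUnit_gmFn z)
    obtain ⟨x₂, y₂, z₂, hz₂, -, hy₂, d₂⟩ := (h' X (gaPt X ((a⁻¹ : Γ(X.left, ⊤)ˣ) * (Red.gmFn z - 1)))
      (gaPt X 1)).2 (by rw [e1']; exact isUnit_gmFn z)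
    rw [← Category.assoc] at d₁ d₂
    obtain ⟨-, k1⟩ := key d₁ d₂
    rw [e1] at hz₁
    rw [e1'] at hz₂
    rw [gmFn_injective _ hz₁, gmFn_injective _ hz₂] at k1
    simpa [z] using k1
  exact Prod.ext h1 h2

end Groth.Agent.Sga3.H811.Final
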