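import Groth.Agent.Sga3.H811.Ext

/-!
# Rank one systems: first order expansions

`RSys.L_one`: `A(b, ε) = ε`; `RSys.a`: the constant of the system, `A(ε, 1) = 1 - a ε`;
`RSys.key`: `a * (w * (1 + a * v) - 1) = 0` if `w = A(v, 1)`.
-/

set_option autoImplicit false
universe u

open TrivSqZeroExt DualNumber

namespace Groth.Agent.Sga3.H811.Sys

section dl

variable {R : Type u} [CommRing R] {C B : Type u} [CommRing C] [Algebra R C] [CommRing B] [Algebra R B]

/-- the algebra map `C[ε] → B`, `ε ↦ e` -/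
def dl (f : C →ₐ[R] B) (e : B) (he : e * e = 0) : DualNumber C →ₐ[R] B :=
  DualNumber.lift ⟨(f, e), he, fun _ => Commute.all _ _⟩

lemma dl_apply (f : C →ₐ[R] B) (e : B) (he : e * e = 0) (z : DualNumber C) :
    dl f e he z = f z.fst + f z.snd * e := rfl

@[simp] lemma dl_inl (f : C →ₐ[R] B) (e : B) (he : e * e = 0) (c : C) :
    dl f e he (inl c) = f c := by simp [dl_apply]

@[simp] lemma dl_inr (f : C →ₐ[R] B) (e : B) (he : e * e = 0) (c : C) :
    dl f e he (inr c) = f c * e := by simp [dl_apply]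

@[simp] lemma dl_eps (f : C →ₐ[R] B) (e : B) (he : e * e = 0) :
    dl f e he ε = e := by simp [dl_apply]

lemma inr_mul_self (c : C) : (inr c : DualNumber C) * inr c = 0 := inr_mul_inr _ _ _

end dl

namespace RSys

variable {R : Type u} [CommRing R] (S : RSys R)

section L

variable {C B : Type u} [CommRing C] [Algebra R C] [CommRing B] [Algebra R B]

lemma ex_of {x y a b x' y' a' : C} {t : S.T C} (h : S.Dec x y a b t) (hx : x = x') (hy : y = y')
    (ha : a = a') : ∃ b t, S.Dec x' y' a' b t := by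
  subst hx hy ha
  exact ⟨_, _, h⟩

lemma dec_congr {x y a b x' y' a' b' : C} {t t' : S.T C} (h : S.Dec x y a b t) (hx : x = x')
    (hy : y = y') (ha : a = a') (hb : b = b') (ht : t = t') : S.Dec x' y' a' b' t' := by
  subst hx hy ha hb ht
  exact h

/-- `A(b, ε) = l ε` -/
def L (b l : C) : Prop :=
  ∃ (b' : DualNumber C) (t' : S.T (DualNumber C)), S.Dec (inl b) ε (inr l) b' t'

lemma exists_L (b : C) : ∃ l, S.L b l := by
  obtain ⟨a', b', t', h⟩ := S.good_of_nil_right (x := (inl b : DualNumber C)) (y := ε)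
    ⟨2, by rw [pow_two]; exact DualNumber.eps_mul_eps⟩
  have h1 := S.nat (TrivSqZeroExt.fstHom R C C) h
  have h2 : (TrivSqZeroExt.fstHom R C C) ε = 0 := rfl
  rw [h2] at h1
  have h3 := (S.uniq h1 (S.zero_right _)).1
  refine ⟨a'.snd, b', t', ?_⟩
  have h4 : a' = inr a'.snd := TrivSqZeroExt.ext h3 rfl
  rw [← h4]
  exact h

lemma L_uniq {b l l' : C} (h : S.L b l) (h' : S.L b l') : l = l' := by
  obtain ⟨b1, t1, h1⟩ := h
  obtain ⟨b2, t2, h2⟩ := h'
  exact TrivSqZeroExt.inr_injective (S.uniq h1 h2).1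

lemma L_dec {b l : C} (h : S.L b l) (f : C →ₐ[R] B) (e : B) (he : e * e = 0) :
    ∃ b' t', S.Dec (f b) e (f l * e) b' t' := by
  obtain ⟨b1, t1, h1⟩ := h
  have h2 := S.nat (dl f e he) h1
  rw [dl_inl, dl_eps, dl_inr] at h2
  exact ⟨_, _, h2⟩

lemma L_nat {b l : C} (h : S.L b l) (f : C →ₐ[R] B) : S.L (f b) (f l) := by
  obtain ⟨b', t', h1⟩ := S.L_dec h ((TrivSqZeroExt.inlAlgHom R B B).comp f) ε
    DualNumber.eps_mul_eps
  refine ⟨b', t', ?_⟩
  have h2 : (((TrivSqZeroExt.inlAlgHom R B B).comp f) l : DualNumber B) * ε = inr (f l) := by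
    apply TrivSqZeroExt.ext <;> simp
  rw [h2] at h1
  exact h1

lemma L_zero : S.L (0 : C) 1 := by
  refine ⟨0, 1, ?_⟩
  have h := S.zero_left (ε : DualNumber C)
  exact h

lemma L_mul {x x' l l' : C} (h : S.L x l) (h' : S.L x' l') : S.L (x + x') (l * l') := by
  obtain ⟨b1, t1, h1⟩ := h'
  obtain ⟨b2, t2, h2⟩ := S.L_dec h (TrivSqZeroExt.inlAlgHom R C C) (inr l') (inr_mul_self l')
  refine S.ex_of (S.e1 h1 h2) ?_ rfl ?_
  · apply TrivSqZeroExt.ext <;> simp
  · apply TrivSqZeroExt.ext <;> simp [mul_comm]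

lemma L_unit_mul {x l : C} (z : Cˣ) (h : S.L x l) : S.L (z * x) l := by
  obtain ⟨b1, t1, h1⟩ := h
  have h2 := S.equi (Units.map (inlHom C C).toMonoidHom z) h1
  have h3 := S.nat (dl (TrivSqZeroExt.inlAlgHom R C C) (inr (z : C)) (inr_mul_self _)) h2
  have e1 : ((Units.map (inlHom C C).toMonoidHom z : (DualNumber C)ˣ) : DualNumber C) = inl (z : C) := rfl
  have e2 : (((Units.map (inlHom C C).toMonoidHom z)⁻¹ : (DualNumber C)ˣ) : DualNumber C) =
    inl ((z⁻¹ : Cˣ) : C) := rfl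
  rw [e1, e2] at h3
  refine S.ex_of h3 ?_ ?_ ?_
  · rw [map_mul, dl_inl, dl_inl]
    apply TrivSqZeroExt.ext <;> simp
  · rw [map_mul, dl_inl, dl_eps]
    apply TrivSqZeroExt.ext <;> simp
  · rw [map_mul, dl_inl, dl_inr]
    apply TrivSqZeroExt.ext <;> simp

open Polynomial in
/-- a faithfully flat extension containing `z` with `z (1 - z) = 1` -/
lemma exists_ext (C : Type u) [CommRing C] [Algebra R C] : ∃ (D : Type u) (_ : CommRing D)
    (_ : Algebra R D) (f : C →ₐ[R] D) (z : D), Function.Injective f ∧ z * (1 - z) = 1 := by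
  rcases subsingleton_or_nontrivial C with hC | hC
  · exact ⟨C, inferInstance, inferInstance, AlgHom.id R C, 0, Function.injective_id,
      Subsingleton.elim _ _⟩
  have hd : (X ^ 2 - X + 1 : C[X]).natDegree = 2 := by compute_degree!
  have hF : (X ^ 2 - X + 1 : C[X]).Monic := by monicity!
  obtain ⟨D, i1, i2, f, z, h1, h2⟩ := exists_root (R := R) (X ^ 2 - X + 1 : C[X]) hF (by rw [hd]; norm_num)
  refine ⟨D, i1, i2, f, z, h1.injective, ?_⟩
  simp only [eval₂_add, eval₂_sub, eval₂_pow, eval₂_X, eval₂_one] at h2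
  linear_combination -h2

/-- `A(b, ε) = ε` -/
lemma L_one (b : C) : S.L b 1 := by
  obtain ⟨l, hl⟩ := S.exists_L b
  suffices l = 1 by rwa [this] at hl
  obtain ⟨D, _, _, f, z, hf, hz⟩ := exists_ext (R := R) C
  apply hf
  rw [map_one]
  have h1 := S.L_nat hl f
  let zu : Dˣ := ⟨z, 1 - z, hz, by rw [mul_comm]; exact hz⟩
  have h2 := S.L_mul (S.L_unit_mul zu h1) (S.L_unit_mul zu⁻¹ h1)
  have e : (zu : D) * f b + ((zu⁻¹ : Dˣ) : D) * f b = f b := by
    change z * f b + (1 - z) * f b = f b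
    ring
  rw [e] at h2
  have h3 := S.L_uniq h1 h2
  obtain ⟨l', hl'⟩ := S.exists_L (-(f b))
  have h4 := S.L_mul h1 hl'
  rw [add_neg_cancel] at h4
  have h5 := S.L_uniq h4 S.L_zero
  calc f l = f l * (f l * l') := by rw [h5, mul_one]
    _ = (f l * f l) * l' := by ring
    _ = 1 := by rw [← h3, h5]

end L

end RSys

end Groth.Agent.Sga3.H811.Sys
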