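import Groth.Agent.Sga3.H811.Sys
import Mathlib.Tactic.ComputeDegree

/-!
# Adjoining a root of a monic polynomial is faithfully flat
-/

set_option autoImplicit false
universe u

open Polynomial

namespace Groth.Agent.Sga3.H811.Sys

variable {R : Type u} [CommRing R] {C : Type u} [CommRing C] [Algebra R C]

lemma faithfullyFlat_adjoinRoot [Nontrivial C] (F : C[X]) (hF : F.Monic) (hd : F.natDegree ≠ 0) :
    (algebraMap C (AdjoinRoot F)).FaithfullyFlat := by
  rw [RingHom.faithfullyFlat_algebraMap_iff]
  have : Module.Free C (AdjoinRoot F) := hF.free_adjoinRoot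
  have : Nontrivial (AdjoinRoot F) := by
    refine Ideal.Quotient.nontrivial_iff.mpr ?_
    rw [Ne, Ideal.span_singleton_eq_top]
    intro h
    apply hd
    rw [hF.eq_one_of_isUnit h, natDegree_one]
  infer_instance

/-- A monic polynomial gets a root in a faithfully flat extension. -/
lemma exists_root [Nontrivial C] (F : C[X]) (hF : F.Monic) (hd : F.natDegree ≠ 0) :
    ∃ (D : Type u) (_ : CommRing D) (_ : Algebra R D) (f : C →ₐ[R] D) (z : D),
      (f : C →+* D).FaithfullyFlat ∧ F.eval₂ (f : C →+* D) z = 0 := by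
  refine ⟨AdjoinRoot F, inferInstance, inferInstance, IsScalarTower.toAlgHom R C (AdjoinRoot F),
    AdjoinRoot.root F, faithfullyFlat_adjoinRoot F hF hd, ?_⟩
  exact AdjoinRoot.eval₂_root F

end Groth.Agent.Sga3.H811.Sys
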