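import Mathlib.Algebra.Polynomial.Roots
import Mathlib.Algebra.Polynomial.Expand
import Mathlib.FieldTheory.IsAlgClosed.Basic

/-!
# A functional equation for rational functions

If `g = P / Q` is a rational function over an algebraically closed field with
`g(u + v) = g(v) g(u g(v))` and `g(0) = 1`, then `g = 1` or `g = z / (z - X)`.
-/

set_option autoImplicit false
universe u

open Polynomial

namespace Groth.Agent.Sga3.H811.RatFun

variable {K : Type u} [Field K] [IsAlgClosed K]

lemma eq_of_eval {A B N : K[X]} (hN : N ≠ 0) (h : ∀ v, N.eval v ≠ 0 → A.eval v = B.eval v) : A = B := by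
  have : Infinite K := IsAlgClosed.instInfinite
  have h1 : N * (A - B) = 0 := by
    apply Polynomial.funext
    intro v
    rw [eval_mul, eval_sub, eval_zero]
    by_cases hv : N.eval v = 0
    · rw [hv, zero_mul]
    · rw [h v hv, sub_self, mul_zero]
  rcases mul_eq_zero.mp h1 with h2 | h2
  · exact absurd h2 hN
  · exact sub_eq_zero.mp h2

/-- the combinatorial step -/
lemma exists_root_eq {P Q N H : K[X]} (hN : N ≠ 0) (hH : H ≠ 0) (z : K)
    (hP : ∀ v, N.eval v ≠ 0 → P.eval v ≠ 0)
    (h : ∀ v, N.eval v ≠ 0 → H.eval ((z * Q.eval v + v * P.eval v) / P.eval v) = 0) :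
    ∃ r, C z * Q = (C r - X) * P := by
  classical
  have h1 : (∏ r ∈ H.roots.toFinset, (C z * Q + X * P - C r * P)) = 0 := by
    apply eq_of_eval hN
    intro v hv
    rw [eval_zero, eval_prod]
    have h2 := h v hv
    refine Finset.prod_eq_zero (i := (z * Q.eval v + v * P.eval v) / P.eval v) ?_ ?_
    · rw [Multiset.mem_toFinset, mem_roots hH]
      exact h2
    · simp only [eval_sub, eval_add, eval_mul, eval_C, eval_X]
      rw [div_mul_cancel₀ _ (hP v hv), sub_self]
  rw [Finset.prod_eq_zero_iff] at h1
  obtain ⟨r, -, hr⟩ := h1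
  exact ⟨r, by linear_combination hr⟩

/-- The functional equation forces `g = P / Q` to be `1` or `z / (z - X)`. -/
theorem main {P Q N : K[X]} (hN : N ≠ 0) (hcop : IsCoprime P Q)
    (hP : ∀ v, N.eval v ≠ 0 → P.eval v ≠ 0) (hQ : ∀ v, N.eval v ≠ 0 → Q.eval v ≠ 0)
    (h0 : P.eval 0 = Q.eval 0) (h0' : Q.eval 0 ≠ 0)
    (h : ∀ u v, N.eval v ≠ 0 → N.eval (u * (P.eval v / Q.eval v)) ≠ 0 → N.eval (u + v) ≠ 0 →
      P.eval (u + v) / Q.eval (u + v) =
        P.eval v / Q.eval v * (P.eval (u * (P.eval v / Q.eval v)) / Q.eval (u * (P.eval v / Q.eval v)))) :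
    P = Q ∨ ∃ z : K, z ≠ 0 ∧ C z * Q = (C z - X) * P := by
  -- the polynomial identity for fixed `v`
  have key : ∀ v, N.eval v ≠ 0 → ∀ u, P.eval (u + v) * Q.eval (u * (P.eval v / Q.eval v)) =
      P.eval v / Q.eval v * P.eval (u * (P.eval v / Q.eval v)) * Q.eval (u + v) := by
    intro v hv u
    set c := P.eval v / Q.eval v with hc
    have hc0 : c ≠ 0 := div_ne_zero (hP v hv) (hQ v hv)
    have h1 : P.comp (X + C v) * Q.comp (X * C c) = C c * P.comp (X * C c) * Q.comp (X + C v) := by
      have hN1 : N.comp (X * C c) ≠ 0 := by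
        intro h2
        have := congrArg (eval (v / c)) h2
        rw [eval_comp] at this
        simp only [eval_mul, eval_X, eval_C, eval_zero, div_mul_cancel₀ _ hc0] at this
        exact hv this
      have hN2 : N.comp (X + C v) ≠ 0 := by
        intro h2
        have := congrArg (eval 0) h2
        rw [eval_comp] at this
        simp only [eval_add, eval_X, eval_C, eval_zero, zero_add] at this
        exact hv this
      apply eq_of_eval (mul_ne_zero hN1 hN2)
      intro u hu
      rw [eval_mul, mul_ne_zero_iff, eval_comp, eval_comp] at hu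
      simp only [eval_mul, eval_X, eval_C, eval_add] at hu
      obtain ⟨hu1, hu2⟩ := hu
      have h3 := h u v hv hu1 hu2
      rw [← hc] at h3
      simp only [eval_mul, eval_comp, eval_add, eval_X, eval_C]
      rw [div_eq_iff (hQ _ hu2), ← mul_div_assoc, div_mul_eq_mul_div, eq_div_iff (hQ _ hu1)] at h3
      exact h3
    have h2 := congrArg (eval u) h1
    simpa only [eval_mul, eval_comp, eval_add, eval_X, eval_C] using h2
  have hQ0 : Q ≠ 0 := by rintro rfl; simp at h0'
  have hP0 : P ≠ 0 := by rintro rfl; rw [← h0] at h0'; simp at h0'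
  have hcop' : ∀ z, ¬ (P.eval z = 0 ∧ Q.eval z = 0) := by
    rintro z ⟨h1, h2⟩
    obtain ⟨a, b, hab⟩ := hcop
    have := congrArg (eval z) hab
    simp [h1, h2] at this
  -- the value at `z / c`
  have key2 : ∀ z v, N.eval v ≠ 0 →
      P.eval ((z * Q.eval v + v * P.eval v) / P.eval v) * Q.eval z =
        P.eval v / Q.eval v * P.eval z * Q.eval ((z * Q.eval v + v * P.eval v) / P.eval v) := by
    intro z v hv
    have h1 := hP v hv
    have h2 := hQ v hv
    have h3 := key v hv (z * Q.eval v / P.eval v)
    have e1 : z * Q.eval v / P.eval v + v = (z * Q.eval v + v * P.eval v) / P.eval v := by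
      field_simp
    have e2 : z * Q.eval v / P.eval v * (P.eval v / Q.eval v) = z := by
      field_simp
    rw [e1, e2] at h3
    exact h3
  -- if `Q` has a root
  by_cases hQr : ∃ z, Q.eval z = 0
  · obtain ⟨z, hz⟩ := hQr
    have hz0 : z ≠ 0 := by rintro rfl; exact h0' hz
    obtain ⟨r, hr⟩ := exists_root_eq (P := P) (Q := Q) hN hQ0 z hP (by
      intro v hv
      have h1 := key2 z v hv
      rw [hz, mul_zero] at h1
      have h2 : P.eval v / Q.eval v * P.eval z ≠ 0 :=
        mul_ne_zero (div_ne_zero (hP v hv) (hQ v hv)) (fun h => hcop' z ⟨h, hz⟩)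
      exact (mul_eq_zero.mp h1.symm).resolve_left h2)
    right
    refine ⟨z, hz0, ?_⟩
    have h2 := congrArg (eval 0) hr
    simp only [eval_mul, eval_C, eval_sub, eval_X, sub_zero] at h2
    rw [h0] at h2
    have : z = r := mul_right_cancel₀ h0' h2
    rw [this] at hr ⊢
    exact hr
  · -- `Q` is constant
    left
    have hQd : Q.natDegree = 0 := by
      by_contra hd
      apply hQr
      obtain ⟨z, hz⟩ := IsAlgClosed.exists_root Q (by
        rw [degree_eq_natDegree hQ0]
        exact_mod_cast hd)
      exact ⟨z, hz⟩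
    have hPd : P.natDegree = 0 := by
      by_contra hd
      obtain ⟨z, hz⟩ := IsAlgClosed.exists_root P (by
        rw [degree_eq_natDegree hP0]
        exact_mod_cast hd)
      have hz' : P.eval z = 0 := hz
      have hz0 : z ≠ 0 := by rintro rfl; rw [← h0] at h0'; exact h0' hz'
      obtain ⟨r, hr⟩ := exists_root_eq (P := P) (Q := Q) hN hP0 z hP (by
        intro v hv
        have h1 := key2 z v hv
        rw [hz', mul_zero, zero_mul] at h1
        exact (mul_eq_zero.mp h1).resolve_right (fun h => hcop' z ⟨hz', h⟩))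
      have h1 := congrArg natDegree hr
      rw [natDegree_C_mul hz0, hQd] at h1
      have h2 : (C r - X : K[X]) ≠ 0 := by
        intro h3
        have := congrArg natDegree h3
        rw [natDegree_sub_eq_right_of_natDegree_lt] at this
        · simp at this
        · simp
      rw [natDegree_mul h2 hP0] at h1
      omega
    rw [eq_C_of_natDegree_eq_zero hPd, eq_C_of_natDegree_eq_zero hQd, coeff_zero_eq_eval_zero,
      coeff_zero_eq_eval_zero, h0]

end Groth.Agent.Sga3.H811.RatFun
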