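import Groth.Agent.Sga3.H811.Main
import Groth.Agent.Sga3.H811.RatFun
import Mathlib.RingTheory.EuclideanDomain

/-!
# Rank one systems over an algebraically closed field with `a = 0`: `p` and `q` commute
-/

set_option autoImplicit false
universe u

open Polynomial TrivSqZeroExt DualNumber

namespace Groth.Agent.Sga3.H811.Sys

lemma exists_coprime {K : Type u} [Field K] (P₀ Q₀ : K[X]) (h : Q₀ ≠ 0) :
    ∃ P Q d, IsCoprime P Q ∧ P₀ = d * P ∧ Q₀ = d * Q := by
  classical
  let := EuclideanDomain.gcdMonoid K[X]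
  exact ⟨_, _, _, isCoprime_div_gcd_div_gcd (p := P₀) h,
    (EuclideanDomain.mul_div_cancel' (gcd_ne_zero_of_right h) <| gcd_dvd_left _ _).symm,
    (EuclideanDomain.mul_div_cancel' (gcd_ne_zero_of_right h) <| gcd_dvd_right _ _).symm⟩

namespace RSys

variable {K : Type u} [Field K] [IsAlgClosed K] (S : RSys K) (ha : S.a = 0)
include ha

/-- Over an algebraically closed field with `a = 0`: `A(v, 1) = 1`. -/
theorem exists_generic_one : ∃ N : K[X], N.eval 0 ≠ 0 ∧
    ∃ (b : Localization.Away N) (t : S.T (Localization.Away N)),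
      S.Dec (algebraMap K[X] (Localization.Away N) X) 1 1 b t := by
  obtain ⟨N, hN, w, b, t, h⟩ := S.exists_generic K
  refine ⟨N, hN, ?_⟩
  suffices w = 1 by
    rw [this] at h
    exact ⟨_, _, h⟩
  have hN0 : N ≠ 0 := by rintro rfl; simp at hN
  obtain ⟨⟨P₀, s, hs⟩, hPs⟩ := IsLocalization.surj (Submonoid.powers N) w
  simp only at hPs
  obtain ⟨n, rfl⟩ := hs
  -- make it coprime
  obtain ⟨P, Q, d, hcop, hP, hQ⟩ := exists_coprime P₀ (N ^ n) (pow_ne_zero _ hN0)
  let ι : K[X] →+* Localization.Away N := algebraMap K[X] (Localization.Away N)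
  have hNu : IsUnit (ι N) := IsLocalization.Away.algebraMap_isUnit N
  have hdQ : IsUnit (ι d * ι Q) := by
    rw [← map_mul, ← hQ, map_pow]
    exact hNu.pow n
  have hd : IsUnit (ι d) := isUnit_of_mul_isUnit_left hdQ
  have hQu : IsUnit (ι Q) := isUnit_of_mul_isUnit_right hdQ
  have hw : w * ι Q = ι P := by
    apply hd.mul_left_cancel
    have : w * ι (N ^ n) = ι P₀ := hPs
    rw [hQ, hP, map_mul, map_mul] at this
    linear_combination this
  have hwu : IsUnit w := S.isUnit_of_dec h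
  have hPu : IsUnit (ι P) := hw ▸ hwu.mul hQu
  -- values
  have val : ∀ {E : Type u} [CommRing E] [Algebra K E] (v : E), IsUnit (aeval v N) →
      ∃ w' b' t', S.Dec v 1 w' b' t' ∧ w' * aeval v Q = aeval v P ∧ IsUnit (aeval v Q) ∧
        IsUnit (aeval v P) := by
    intro E _ _ v hv
    have h1 := S.nat (evN K N v hv) h
    rw [evN_algebraMap, map_one, aeval_X] at h1
    refine ⟨_, _, _, h1, ?_, ?_, ?_⟩
    · have := congrArg (evN K N v hv) hw
      rwa [map_mul, evN_algebraMap, evN_algebraMap] at this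
    · have := hQu.map (evN K N v hv)
      rwa [evN_algebraMap] at this
    · have := hPu.map (evN K N v hv)
      rwa [evN_algebraMap] at this
  have valK : ∀ v : K, N.eval v ≠ 0 → ∃ w' b' t', S.Dec v 1 w' b' t' ∧ w' = P.eval v / Q.eval v ∧
      Q.eval v ≠ 0 ∧ P.eval v ≠ 0 := by
    intro v hv
    obtain ⟨w', b', t', h1, h2, h3, h4⟩ := val v (by rw [coe_aeval_eq_eval]; exact hv.isUnit)
    rw [coe_aeval_eq_eval] at h2 h3 h4
    exact ⟨w', b', t', h1, by rw [eq_div_iff h3.ne_zero]; exact h2, h3.ne_zero, h4.ne_zero⟩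
  have h0 : P.eval 0 = Q.eval 0 ∧ Q.eval 0 ≠ 0 := by
    obtain ⟨w', b', t', h1, h2, h3, h4⟩ := valK 0 hN
    have h5 := (S.uniq h1 (S.zero_left 1)).1
    rw [h5, eq_div_iff h3, one_mul] at h2
    exact ⟨h2.symm, h3⟩
  have hfun : ∀ u v, N.eval v ≠ 0 → N.eval (u * (P.eval v / Q.eval v)) ≠ 0 → N.eval (u + v) ≠ 0 →
      P.eval (u + v) / Q.eval (u + v) =
        P.eval v / Q.eval v * (P.eval (u * (P.eval v / Q.eval v)) / Q.eval (u * (P.eval v / Q.eval v))) := by
    intro u v hv h1 h2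
    obtain ⟨w₁, b₁, t₁, k1, k2, k3, k4⟩ := valK v hv
    obtain ⟨w₂, b₂, t₂, l1, l2, l3, l4⟩ := valK _ h1
    obtain ⟨w₃, b₃, t₃, m1, m2, m3, m4⟩ := valK _ h2
    rw [← k2] at l1 l2 ⊢
    rw [← l2, ← m2]
    have hw₁ : w₁ ≠ 0 := by rw [k2]; exact div_ne_zero k4 k3
    exact (S.uniq m1 (S.e1' (w := Units.mk0 w₁ hw₁) k1 l1)).1
  rcases RatFun.main hN0 hcop (fun v hv => (valK v hv).choose_spec.choose_spec.choose_spec.2.2.2)
    (fun v hv => (valK v hv).choose_spec.choose_spec.choose_spec.2.2.1) h0.1 h0.2 hfun with h1 | h1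
  · apply hQu.mul_right_cancel
    rw [hw, h1, one_mul]
  · exfalso
    obtain ⟨z, hz, h1⟩ := h1
    -- evaluate at `ε`
    have hu : IsUnit (aeval (ε : DualNumber K) N) := by
      rw [TrivSqZeroExt.isUnit_iff_isUnit_fst]
      have h2 : (aeval (ε : DualNumber K) N).fst = N.eval 0 := by
        have := Polynomial.aeval_algHom_apply (TrivSqZeroExt.fstHom K K K) (ε : DualNumber K) N
        rw [← coe_aeval_eq_eval]
        exact this.symm
      rw [h2]
      exact hN.isUnit
    obtain ⟨w', b', t', k1, k2, k3, k4⟩ := val _ hu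
    obtain ⟨t'', k5⟩ := S.dec_eps (ε : DualNumber K) DualNumber.eps_mul_eps
    have k6 := (S.uniq k1 k5).1
    have k7 : S.aC (DualNumber K) = 0 := by rw [aC, ha, map_zero]
    rw [k7, zero_mul, sub_zero] at k6
    rw [k6, one_mul] at k2
    have k8 := congrArg (aeval (ε : DualNumber K)) h1
    rw [map_mul, map_mul, k2, map_sub, aeval_C, aeval_X] at k8
    have k9 := k4.mul_right_cancel k8
    have k10 : (ε : DualNumber K) = 0 := by linear_combination k9
    have k11 := congrArg TrivSqZeroExt.snd k10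
    simp at k11

/-- Over an algebraically closed field with `a = 0`: `p(u) q(1)` is always in the cell. -/
theorem good_one {C : Type u} [CommRing C] [Algebra K C] (u : C) : ∃ a b t, S.Dec u 1 a b t := by
  classical
  obtain ⟨N, hN, b₀, t₀, h⟩ := S.exists_generic_one ha
  have hN0 : N ≠ 0 := by rintro rfl; simp at hN
  refine S.good_of_algClosed fun L _ _ _ φ => ?_
  rw [map_one]
  have hev : ∀ v : L, aeval v N ≠ 0 → ∃ b t, S.Dec v 1 1 b t := by
    intro v hv
    have h1 := S.nat (evN K N v hv.isUnit) h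
    rw [evN_algebraMap, map_one, aeval_X] at h1
    exact ⟨_, _, h1⟩
  have : Infinite L := IsAlgClosed.instInfinite
  let N' : L[X] := N.map (algebraMap K L)
  have hN' : N' ≠ 0 := (Polynomial.map_ne_zero_iff (algebraMap K L).injective).mpr hN0
  have hN'ev : ∀ v : L, N'.eval v = aeval v N := fun v => by
    rw [eval_map_algebraMap]
  obtain ⟨v, hv⟩ := Infinite.exists_notMem_finset (N'.roots.toFinset ∪
    N'.roots.toFinset.image (fun r => φ u - r))
  rw [Finset.mem_union, not_or, Finset.mem_image] at hv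
  obtain ⟨hv1, hv2⟩ := hv
  have hv1' : aeval v N ≠ 0 := by
    intro h0
    apply hv1
    rw [Multiset.mem_toFinset, mem_roots hN', IsRoot, hN'ev, h0]
  have hv2' : aeval (φ u - v) N ≠ 0 := by
    intro h0
    apply hv2
    refine ⟨φ u - v, ?_, by ring⟩
    rw [Multiset.mem_toFinset, mem_roots hN', IsRoot, hN'ev, h0]
  obtain ⟨b₁, t₁, h₁⟩ := hev v hv1'
  obtain ⟨b₂, t₂, h₂⟩ := hev _ hv2'
  have h2 := S.e1' (w := 1) h₁ (S.dec_congr h₂ (by rw [Units.val_one, mul_one]) rfl rfl rfl rfl)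
  rw [sub_add_cancel] at h2
  exact ⟨_, _, _, h2⟩

variable (hT : ∀ t : S.T K[X], S.map (aeval (0 : K)) t = 1 → t = 1)
include hT

/-- Over an algebraically closed field with `a = 0`: `A(u, 1) = 1`, `τ(u, 1) = 1`,
`B(u, 1) = k(u)` for a polynomial `k`. -/
theorem exists_k : ∃ k : K[X], ∀ {C : Type u} [CommRing C] [Algebra K C] (u : C),
    S.Dec u 1 1 (aeval u k) 1 := by
  obtain ⟨w, k, t, h⟩ := S.good_one ha (X : K[X])
  obtain ⟨N, hN, b₀, t₀, h₀⟩ := S.exists_generic_one ha
  have hN0 : N ≠ 0 := by rintro rfl; simp at hN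
  have hw : w = 1 := by
    have h1 := S.nat (IsScalarTower.toAlgHom K K[X] (Localization.Away N)) h
    rw [map_one] at h1
    have h2 := (S.uniq h1 h₀).1
    have h3 : Function.Injective (algebraMap K[X] (Localization.Away N)) :=
      IsLocalization.injective _ (powers_le_nonZeroDivisors_of_noZeroDivisors hN0)
    apply h3
    rw [map_one]
    exact h2
  have ht : t = 1 := by
    apply hT
    have h1 := S.nat (aeval (0 : K)) h
    rw [map_one, aeval_X] at h1
    exact (S.uniq h1 (S.zero_left 1)).2.2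
  rw [hw, ht] at h
  refine ⟨k, fun {C} _ _ u => ?_⟩
  have h1 := S.nat (aeval u) h
  rw [map_one, map_one, aeval_X] at h1
  exact h1

theorem dec_one_zero {C : Type u} [CommRing C] [Algebra K C] (u : C) : S.Dec u 1 1 u 1 := by
  obtain ⟨k, hk⟩ := S.exists_k ha hT
  suffices k = X by
    have := hk u
    rwa [‹k = X›, aeval_X] at this
  have hlin : aeval (ε : DualNumber K) k = ε := by
    obtain ⟨t'', k5⟩ := S.dec_eps (ε : DualNumber K) DualNumber.eps_mul_eps
    exact (S.uniq (hk _) k5).2.1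
  have hdeg : k.natDegree ≤ 1 := by
    have : Infinite K := IsAlgClosed.instInfinite
    classical
    obtain ⟨s, hs⟩ := Infinite.exists_notMem_finset ({0, -1} : Finset K)
    simp only [Finset.mem_insert, Finset.mem_singleton, not_or] at hs
    obtain ⟨hs0, hs1⟩ := hs
    have hs1' : 1 + s ≠ 0 := fun h => hs1 (by linear_combination h)
    let su : K[X]ˣ := Units.map (Polynomial.C : K →+* K[X]).toMonoidHom (Units.mk0 s hs0)
    let su' : K[X]ˣ := Units.map (Polynomial.C : K →+* K[X]).toMonoidHom (Units.mk0 (1 + s) hs1')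
    have e1 : (su : K[X]) = Polynomial.C s := rfl
    have e1' : ((su⁻¹ : K[X]ˣ) : K[X]) = Polynomial.C s⁻¹ := rfl
    have e2 : (su' : K[X]) = Polynomial.C (1 + s) := rfl
    have e2' : ((su'⁻¹ : K[X]ˣ) : K[X]) = Polynomial.C (1 + s)⁻¹ := rfl
    have h1 : S.Dec (X : K[X]) 1 1 k 1 := S.dec_congr (hk X) rfl rfl rfl (aeval_X_left_apply k) rfl
    have h2 : S.Dec k (su : K[X]) (su : K[X]) ((su⁻¹ : K[X]ˣ) * k.comp (Polynomial.C s * k)) 1 := by
      refine S.dec_congr (S.equi su⁻¹ (hk (Polynomial.C s * k))) ?_ ?_ ?_ rfl rfl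
      · rw [← e1, ← mul_assoc, Units.inv_mul, one_mul]
      · rw [inv_inv, mul_one]
      · rw [inv_inv, mul_one]
    have h3 : S.Dec (X : K[X]) (su' : K[X]) (su' : K[X])
        ((su'⁻¹ : K[X]ˣ) * k.comp (Polynomial.C (1 + s) * X)) 1 := by
      refine S.dec_congr (S.equi su'⁻¹ (hk (Polynomial.C (1 + s) * X))) ?_ ?_ ?_ rfl rfl
      · rw [← e2, ← mul_assoc, Units.inv_mul, one_mul]
      · rw [inv_inv, mul_one]
      · rw [inv_inv, mul_one]
    have h4 := S.e2 h1 h2
    have e3 : 1 + (su : K[X]) = su' := by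
      rw [e1, e2, map_add, map_one]
    have e4 : 1 + (((S.ch (1 : S.T K[X]))⁻¹ : K[X]ˣ) : K[X]) * (su : K[X]) = su' := by
      rw [map_one, inv_one, Units.val_one, one_mul, e3]
    rw [e3, e4] at h4
    have h5 := congrArg natDegree (S.uniq h4 h3).2.1
    rw [e1', e2', natDegree_C_mul (inv_ne_zero hs0), natDegree_C_mul (inv_ne_zero hs1'),
      natDegree_comp, natDegree_comp, natDegree_C_mul hs0, natDegree_C_mul hs1', natDegree_X,
      mul_one] at h5
    by_contra hlt
    push Not at hlt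
    have : k.natDegree * 1 < k.natDegree * k.natDegree := by
      apply Nat.mul_lt_mul_of_pos_left hlt
      omega
    omega
  rw [eq_X_add_C_of_natDegree_le_one hdeg] at hlin ⊢
  rw [map_add, map_mul, aeval_C, aeval_C, aeval_X] at hlin
  have h1 := congrArg TrivSqZeroExt.fst hlin
  have h2 := congrArg TrivSqZeroExt.snd hlin
  simp [TrivSqZeroExt.algebraMap_eq_inl] at h1 h2
  rw [h1, h2]
  simp

/-- Over an algebraically closed field with `a = 0`: `p` and `q` commute. -/
theorem dec_comm {C : Type u} [CommRing C] [Algebra K C] (x y : C) : S.Dec x y y x 1 := by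
  have hu : ∀ {D : Type u} [CommRing D] [Algebra K D] (x : D) (y : Dˣ), S.Dec x y y x 1 := by
    intro D _ _ x y
    refine S.dec_congr (S.equi y⁻¹ (S.dec_one_zero ha hT (y * x))) ?_ ?_ ?_ ?_ rfl
    · rw [← mul_assoc, Units.inv_mul, one_mul]
    · rw [inv_inv, mul_one]
    · rw [inv_inv, mul_one]
    · rw [← mul_assoc, Units.inv_mul, one_mul]
  obtain ⟨D, i1, i2, f, y₁, hf, h1, h2, -⟩ := exists_split (R := K) (0 : C) y 1 (by simp)
  apply S.desc f hf
  obtain ⟨y₁, rfl⟩ := h1
  obtain ⟨y₂, hy₂⟩ := h2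
  refine S.dec_congr (S.e2 (hu (f x) y₁) (hu (f x) y₂)) rfl ?_ ?_ rfl ?_
  · rw [hy₂]; ring
  · rw [map_one, inv_one, Units.val_one, one_mul, hy₂]; ring
  · rw [map_one, mul_one]

end RSys

end Groth.Agent.Sga3.H811.Sys
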