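import Groth.Agent.Sga3.H811.Mk
import Groth.Agent.Sga3.H811.Zero
import Groth.Agent.Sga3B.TorusBc
import Groth.Agent.Sga3B.TorusAlgClosed
import Groth.Agent.Sga3B.AffYoneda

/-!
# The constant of the rank one system is non-zero over geometric points
-/

set_option autoImplicit false
universe u
open CategoryTheory MonoidalCategory CartesianMonoidalCategory MonObj GrpObj AlgebraicGeometry Limits
open Polynomial

namespace Groth.Agent.Sga3.H811.Fld

open Groth.Agent.Sga3B Groth.Agent.Sga3B.DSPts Groth.Agent.Sga3B.GaPts Groth.Agent.Sga3B.RedIso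
open Groth.Agent.Sga3.H811.Pts Groth.Agent.Sga3.H811.Lift Groth.Agent.Sga3.H811.Sys
open Groth.Agent.Sga3.H811.Mk

variable {S : Scheme.{u}} {G T : Over S} [GrpObj G] [GrpObj T] {i : T ⟶ G} {α : T ⟶ Red.Gm S}
  {pp pm : Red.Ga S ⟶ G} (H : RHyp i α pp pm)

section

variable {K : Type u} [Field K] [IsAlgClosed K] (s : Spec (CommRingCat.of K) ⟶ S)

/-- A `K[X]`-point of a torus which is trivial at `0` is trivial. -/
lemma eq_one_of_eval (hT : Red.IsTorus T) (t : tB s K[X] ⟶ T)
    (h : tMap s (aeval (0 : K)) ≫ t = 1) : t = 1 := by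
  obtain ⟨r, ⟨e⟩⟩ := TorusAlgClosed.exists_isSplitTorusWith (TorusBc.isTorus_bc s hT)
  let Y : Over (Spec (CommRingCat.of K)) := Over.mk (Spec.map (CommRingCat.ofHom (algebraMap K K[X])))
  let Y₀ : Over (Spec (CommRingCat.of K)) := Over.mk (Spec.map (CommRingCat.ofHom (algebraMap K K)))
  let h₀ : Y₀ ⟶ Y := Over.homMk (Spec.map (CommRingCat.ofHom ((aeval (0 : K) : K[X] →ₐ[K] K) : K[X] →+* K))) (by
    simp only [Y, Y₀, Over.mk_left, Over.mk_hom]
    rw [← Spec.map_comp, ← CommRingCat.ofHom_comp, AlgHom.comp_algebraMap])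
  let q : Y ⟶ Red.bc s T := DSPts.bcEquiv s Y T t
  have hq : h₀ ≫ q = 1 := by
    have h1 : h₀ ≫ q = DSPts.bcEquiv s Y₀ T ((Over.map s).map h₀ ≫ t) :=
      DSPts.bcEquiv_naturality s T h₀ t
    have h2 : (Over.map s).map h₀ ≫ t = 1 := h
    rw [h1, h2, map_one]
  have hd : dsChar (h₀ ≫ q ≫ (und e).hom) = 1 := by
    have h1 := MonObj.one_comp (X := Y₀) (und e).hom
    rw [← Category.assoc, hq, h1]
    apply (dsEquiv Y₀ (Fin r → ℤ)).injective
    rw [dsEquiv_dsChar, map_one]
  have hχ : dsChar (q ≫ (und e).hom) = 1 := by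
    refine MonoidHom.ext fun m => ?_
    have h1 := DFunLike.congr_fun hd m
    rw [dsChar_comp] at h1
    have h2 : h₀.left.appTop (dsChar (q ≫ (und e).hom) m) = 1 := h1
    obtain ⟨f, hf⟩ := (fe s K[X]).surjective (dsChar (q ≫ (und e).hom) m)
    have h3 : IsUnit f := by
      have h4 : IsUnit (dsChar (q ≫ (und e).hom) m) := (Group.isUnit m).map _
      rw [← hf] at h4
      exact (MulEquiv.isUnit_map (fe s K[X])).mp h4
    rw [← hf] at h2
    have h5 : fe s K (aeval (0 : K) f) = 1 := (fe_nat s (aeval (0 : K)) f).symm.trans h2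
    have h6 : aeval (0 : K) f = 1 := (fe s K).injective (h5.trans (map_one _).symm)
    obtain ⟨c, -, rfl⟩ := Polynomial.isUnit_iff.mp h3
    rw [aeval_C] at h6
    have h7 : c = 1 := h6
    rw [h7, map_one, map_one] at hf
    exact hf.symm
  have h1 : q ≫ (und e).hom = 1 := by
    rw [← dsEquiv_dsChar (q ≫ (und e).hom), hχ, map_one]
  have h2 : q = 1 := by
    have h2 := MonObj.one_comp (X := Y) (und e).hom
    rw [← cancel_mono (und e).hom, h1, h2]
  exact (DSPts.bcEquiv s Y T).injective (h2.trans (map_one _).symm)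

include H in
/-- If the constant vanishes over an algebraically closed field then `p₊` and `p₋` commute over it. -/
theorem comm_of_eq_zero (h0 : (sys H s).a = 0) (Z : Over (Spec (CommRingCat.of K)))
    (x y : (Over.map s).obj Z ⟶ Red.Ga S) : (x ≫ pp) * (y ≫ pm) = (y ≫ pm) * (x ≫ pp) := by
  apply AffYoneda.hom_ext
  intro B σ g
  -- `Spec B` over `Spec K`
  let ψ : K →+* B := (Spec.preimage (g.left ≫ Z.hom)).hom
  let := ψ.toAlgebra
  have hψ : Spec.map (CommRingCat.ofHom (algebraMap K B)) = g.left ≫ Z.hom := Spec.map_preimage _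
  let e : tB s B ≅ Over.mk σ := Over.isoMk (Iso.refl _) (by
    have h1 := Over.w g
    simp only [Over.mk_left, Over.mk_hom, Over.map_obj_hom, Iso.refl_hom] at h1 ⊢
    rw [Category.id_comp, hψ, Category.assoc]
    exact h1.symm)
  let j := e.hom
  rw [← cancel_epi j]
  have h1 := (sys H s).dec_comm h0 (fun t ht => eq_one_of_eval s H.hT t ht)
    ((fe s B).symm (Red.gaFn (j ≫ g ≫ x))) ((fe s B).symm (Red.gaFn (j ≫ g ≫ y)))
  change DecX i pp pm (tB s B) _ _ _ _ _ at h1
  unfold DecX at h1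
  rw [RingEquiv.apply_symm_apply, RingEquiv.apply_symm_apply, gaPt_gaFn, gaPt_gaFn] at h1
  have := H.mi
  have h2 : ((1 : (sys H s).T B) : tB s B ⟶ T) ≫ i = 1 := MonObj.one_comp i
  rw [h2, _root_.mul_one] at h1
  simp only [MonObj.comp_mul, Category.assoc] at h1 ⊢
  exact h1

end

/-- The constant is non-zero over the geometric points. -/
theorem a_ne_zero (x : S) (hnc : ∃ (X : Over (Spec (CommRingCat.of (AlgebraicClosure (S.residueField x)))))
      (a b : X ⟶ Red.bc (Red.geomPt x) (Red.Ga S)),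
      (a ≫ (Over.pullback (Red.geomPt x)).map pp) * (b ≫ (Over.pullback (Red.geomPt x)).map pm) ≠
        (b ≫ (Over.pullback (Red.geomPt x)).map pm) * (a ≫ (Over.pullback (Red.geomPt x)).map pp)) :
    (sys H (Red.geomPt x)).a ≠ 0 := by
  intro h0
  obtain ⟨X, a, b, hab⟩ := hnc
  apply hab
  obtain ⟨a, rfl⟩ := (DSPts.bcEquiv (Red.geomPt x) X (Red.Ga S)).surjective a
  obtain ⟨b, rfl⟩ := (DSPts.bcEquiv (Red.geomPt x) X (Red.Ga S)).surjective b
  rw [DSPts.bcEquiv_comp, DSPts.bcEquiv_comp, ← map_mul, ← map_mul]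
  congr 1
  exact comm_of_eq_zero H (Red.geomPt x) h0 X a b

end Groth.Agent.Sga3.H811.Fld
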