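import Groth.Agent.Sga3.H811.Key
import Mathlib.FieldTheory.IsAlgClosed.AlgebraicClosure
import Mathlib.RingTheory.LocalRing.ResidueField.Ideal
import Mathlib.Algebra.Polynomial.Roots

/-!
# Rank one systems: reduction to algebraically closed fields, generic points of the line

* `RSys.good_of_algClosed`;
* `RSys.exists_generic`: `p(X) q(1)` is in the cell over `K[X]_N` with `N(0) ≠ 0`;
* `RSys.good_of_isUnit`: if `a` is a unit then `p(u) q(1)` is in the cell if `1 + a u` is a unit.
-/

set_option autoImplicit false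
universe u

open Polynomial

namespace Groth.Agent.Sga3.H811.Sys

namespace RSys

variable {R : Type u} [CommRing R] (S : RSys R)

section

variable {C : Type u} [CommRing C] [Algebra R C]

/-- It suffices to check the decomposition over algebraically closed fields. -/
lemma good_of_algClosed {x y : C} (h : ∀ (K : Type u) [Field K] [IsAlgClosed K] [Algebra R K]
    (φ : C →ₐ[R] K), ∃ a b t, S.Dec (φ x) (φ y) a b t) : ∃ a b t, S.Dec x y a b t := by
  refine S.good_of fun 𝔭 => ?_
  let κ := 𝔭.asIdeal.ResidueField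
  refine ⟨AlgebraicClosure κ, inferInstance, inferInstance,
    IsScalarTower.toAlgHom R C (AlgebraicClosure κ), ?_, h _ _⟩
  refine ⟨⊥, ?_⟩
  ext c
  change algebraMap C (AlgebraicClosure κ) c ∈ (⊥ : Ideal (AlgebraicClosure κ)) ↔ c ∈ 𝔭.asIdeal
  rw [Ideal.mem_bot, IsScalarTower.algebraMap_apply C κ (AlgebraicClosure κ),
    FaithfulSMul.algebraMap_eq_zero_iff, Ideal.algebraMap_residueField_eq_zero]

end

section field

variable {K : Type u} [Field K] [Algebra R K]

/-- the generic point of the line lies in the cell over `K[X]_N` with `N(0) ≠ 0`. -/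
lemma exists_generic (K : Type u) [Field K] [Algebra R K] : ∃ N : K[X], N.eval 0 ≠ 0 ∧
    ∃ (w b : Localization.Away N) (t : S.T (Localization.Away N)),
      S.Dec (algebraMap K[X] (Localization.Away N) X) 1 w b t := by
  let φ : K[X] →ₐ[R] K := (Polynomial.aeval (0 : K)).restrictScalars R
  let 𝔭 : PrimeSpectrum K[X] := PrimeSpectrum.comap (φ : K[X] →+* K) ⊥
  obtain ⟨N, hN, a, b, t, h⟩ := S.good_open (x := X) (y := 1) φ 𝔭 ⟨_, rfl⟩ (by
    have h1 : φ X = 0 := by simp [φ]
    rw [h1]
    exact ⟨_, _, _, S.zero_left _⟩)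
  refine ⟨N, ?_, a, b, t, ?_⟩
  · intro h0
    apply hN
    change (Polynomial.aeval (0 : K)) N ∈ (⊥ : Ideal K)
    rw [Ideal.mem_bot, Polynomial.coe_aeval_eq_eval, h0]
  · rw [map_one] at h
    exact h

variable {E : Type u} [CommRing E] [Algebra K E] [Algebra R E] [IsScalarTower R K E]

/-- evaluation at a point of `N ≠ 0` -/
noncomputable def evN (R : Type u) [CommRing R] {K : Type u} [Field K] [Algebra R K] {E : Type u}
    [CommRing E] [Algebra K E] [Algebra R E] [IsScalarTower R K E] (N : K[X]) (v : E)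
    (hv : IsUnit (aeval v N)) : Localization.Away N →ₐ[R] E :=
  IsLocalization.liftAlgHom (M := Submonoid.powers N) (f := (aeval v : K[X] →ₐ[K] E).restrictScalars R)
    (by
      rintro ⟨_, n, rfl⟩
      change IsUnit (aeval v (N ^ n))
      rw [map_pow]
      exact hv.pow n)

@[simp] lemma evN_algebraMap (N : K[X]) (v : E) (hv : IsUnit (aeval v N)) (P : K[X]) :
    evN R N v hv (algebraMap K[X] (Localization.Away N) P) = aeval v P :=
  IsLocalization.lift_eq _ _

end field

section unit

variable (ha : IsUnit S.a)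
include ha

lemma good_of_field {K : Type u} [Field K] [IsAlgClosed K] [Algebra R K] {u : K}
    (hu : 1 + S.aC K * u ≠ 0) : ∃ a b t, S.Dec u 1 a b t := by
  classical
  obtain ⟨N, hN, w₀, b₀, t₀, h⟩ := S.exists_generic K
  have hN0 : N ≠ 0 := by rintro rfl; simp at hN
  have hev : ∀ v : K, N.eval v ≠ 0 → ∃ w b t, S.Dec v 1 w b t := by
    intro v hv
    have hv' : IsUnit (aeval v N) := by
      rw [coe_aeval_eq_eval]
      exact hv.isUnit
    have h1 := S.nat (evN R N v hv') h
    rw [evN_algebraMap, map_one, aeval_X] at h1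
    exact ⟨_, _, _, h1⟩
  have : Infinite K := IsAlgClosed.instInfinite
  obtain ⟨v, hv⟩ := Infinite.exists_notMem_finset (N.roots.toFinset ∪
    N.roots.toFinset.image (fun r => (u - r) / (1 + S.aC K * r)))
  rw [Finset.mem_union, not_or, Finset.mem_image] at hv
  obtain ⟨hv1, hv2⟩ := hv
  have hv1' : N.eval v ≠ 0 := by
    intro h0
    apply hv1
    rw [Multiset.mem_toFinset, mem_roots hN0]
    exact h0
  obtain ⟨w, b, t, hw⟩ := hev v hv1'
  obtain ⟨e1, -, -⟩ := S.main_of_unit ha hw
  have hw0 : w ≠ 0 := by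
    rintro rfl
    rw [zero_mul] at e1
    exact zero_ne_one e1
  have hv2' : N.eval ((u - v) * w) ≠ 0 := by
    intro h0
    apply hv2
    refine ⟨(u - v) * w, ?_, ?_⟩
    · rw [Multiset.mem_toFinset, mem_roots hN0]
      exact h0
    · have e2 : (1 + S.aC K * ((u - v) * w)) = w * (1 + S.aC K * u) := by
        linear_combination (-1 : K) * e1
      rw [e2, div_eq_iff (mul_ne_zero hw0 hu)]
      linear_combination (-u) * e1
  obtain ⟨w', b', t', hw'⟩ := hev _ hv2'
  let wu : Kˣ := Units.mk0 w hw0
  have h2 := S.e1' (w := wu) hw hw'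
  rw [sub_add_cancel] at h2
  exact ⟨_, _, _, h2⟩

lemma good_of_isUnit {C : Type u} [CommRing C] [Algebra R C] {u : C}
    (hu : IsUnit (1 + S.aC C * u)) : ∃ a b t, S.Dec u 1 a b t := by
  refine S.good_of_algClosed fun K _ _ _ φ => ?_
  rw [map_one]
  refine S.good_of_field ha ?_
  have h1 := (hu.map φ).ne_zero
  rwa [map_add, map_one, map_mul, S.map_aC] at h1

end unit

end RSys

end Groth.Agent.Sga3.H811.Sys
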