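import Groth.Agent.Sga3.H811.Unit
import Groth.Agent.Sga3B.Pts

/-!
# The rank one commutation formula over any base
-/

set_option autoImplicit false
universe u
open CategoryTheory MonoidalCategory CartesianMonoidalCategory MonObj GrpObj AlgebraicGeometry Limits

namespace Groth.Agent.Sga3.H811.Glob

open Groth.Agent.Sga3B Groth.Agent.Sga3B.DSPts Groth.Agent.Sga3B.GaPts Groth.Agent.Sga3B.RedIso
open Groth.Agent.Sga3.H811.Pts Groth.Agent.Sga3.H811.Lift Groth.Agent.Sga3.H811.Sys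
open Groth.Agent.Sga3.H811.Mk Groth.Agent.Sga3.H811.Fld Groth.Agent.Sga3.H811.Unit

variable {S : Scheme.{u}} {G T : Over S} [GrpObj G] [GrpObj T] {i : T ⟶ G} {α : T ⟶ Red.Gm S}
  {pp pm : Red.Ga S ⟶ G} (H : RHyp i α pp pm) (hnc : NC pp pm)

section local'

variable {R : CommRingCat.{u}} (s : Spec R ⟶ S)

/-- functions on `Spec R` -/
noncomputable def f0 : R ≃+* Γ((Over.mk s).left, ⊤) := (Scheme.ΓSpecIso R).symm.commRingCatIsoToRingEquiv

/-- `Spec R` over `S` as a test object -/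
noncomputable def j0 : Over.mk s ⟶ tB s R := Over.homMk (𝟙 _) (by
  simp only [Over.mk_hom]
  have : CommRingCat.ofHom (algebraMap R R) = 𝟙 R := rfl
  rw [this, Spec.map_id, Category.id_comp, Category.id_comp])

/-- `Spec R` over `S` as a test object -/
noncomputable def j1 : tB s R ⟶ Over.mk s := Over.homMk (𝟙 _) (by
  simp only [Over.mk_hom]
  have : CommRingCat.ofHom (algebraMap R R) = 𝟙 R := rfl
  rw [this, Spec.map_id, Category.id_comp]
  rfl)

lemma j0_fe (x : R) : (j0 s).left.appTop (fe s R x) = f0 s x := rfl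

lemma j1_f0 (x : R) : (j1 s).left.appTop (f0 s x) = fe s R x := rfl

variable {s}

lemma dec_mk {x y a b : R} {t : tB s R ⟶ T} (h : (sys H s).Dec x y a b t) :
    DecX i pp pm (Over.mk s) (f0 s x) (f0 s y) (f0 s a) (f0 s b) (j0 s ≫ t) :=
  DecX.nat (j0 s) h

lemma mk_dec {x y a b : R} {t : Over.mk s ⟶ T}
    (h : DecX i pp pm (Over.mk s) (f0 s x) (f0 s y) (f0 s a) (f0 s b) t) :
    (sys H s).Dec x y a b (j1 s ≫ t) :=
  DecX.nat (j1 s) h

variable (s)

/-- the constant as a function on `Spec R` -/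
noncomputable def aG : Γ((Over.mk s).left, ⊤)ˣ :=
  Units.map (f0 s : R →* Γ((Over.mk s).left, ⊤)) (isUnit_a H hnc s).unit

lemma aG_val : (aG H hnc s : Γ((Over.mk s).left, ⊤)) = f0 s (sys H s).a := rfl

/-- the unit of `R` given by a point of `𝔾_m` -/
noncomputable def uOf (g : Over.mk s ⟶ Red.Gm S) : Rˣ :=
  Units.map ((f0 s).symm : Γ((Over.mk s).left, ⊤) →* R) (isUnit_gmFn g).unit

lemma f0_uOf (g : Over.mk s ⟶ Red.Gm S) : f0 s (uOf s g) = Red.gmFn g :=
  (f0 s).apply_symm_apply _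

/-- the cocharacter on affine points -/
noncomputable def cocG (g : Over.mk s ⟶ Red.Gm S) : Over.mk s ⟶ T :=
  j0 s ≫ (sys H s).coc (C := R) (isUnit_a H hnc s) (uOf s g)

lemma dec_cocG {x y : Γ((Over.mk s).left, ⊤)} (z : Γ((Over.mk s).left, ⊤)ˣ)
    (hz : 1 + aG H hnc s * x * y = z) :
    DecX i pp pm (Over.mk s) x y ((z⁻¹ : Γ((Over.mk s).left, ⊤)ˣ) * y)
      ((z⁻¹ : Γ((Over.mk s).left, ⊤)ˣ) * x) (cocG H hnc s (gmPt _ z)) := by
  obtain ⟨x, rfl⟩ := (f0 s).surjective x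
  obtain ⟨y, rfl⟩ := (f0 s).surjective y
  let z' : Rˣ := uOf s (gmPt _ z)
  have hz' : f0 s z' = z := by rw [f0_uOf, gmFn_gmPt]
  have hz'' : f0 s ((z'⁻¹ : Rˣ) : R) = ((z⁻¹ : Γ((Over.mk s).left, ⊤)ˣ) : Γ((Over.mk s).left, ⊤)) := by
    symm
    apply Units.inv_eq_of_mul_eq_one_right
    rw [← hz', ← map_mul, Units.mul_inv, map_one]
  have h1 : 1 + (sys H s).aC R * x * y = z' := by
    apply (f0 s).injective
    rw [hz', ← hz, aG_val, map_add, map_one, map_mul, map_mul]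
    rfl
  have h2 := dec_mk H ((sys H s).dec_formula (isUnit_a H hnc s) z' h1)
  rw [map_mul, map_mul, hz''] at h2
  exact h2

lemma isUnit_of_good {x y a b : Γ((Over.mk s).left, ⊤)} {t : Over.mk s ⟶ T}
    (h : DecX i pp pm (Over.mk s) x y a b t) : IsUnit (1 + aG H hnc s * x * y) := by
  obtain ⟨x, rfl⟩ := (f0 s).surjective x
  obtain ⟨y, rfl⟩ := (f0 s).surjective y
  obtain ⟨a, rfl⟩ := (f0 s).surjective a
  obtain ⟨b, rfl⟩ := (f0 s).surjective b
  have h1 := ((sys H s).dec_iff (isUnit_a H hnc s)).1 ⟨_, _, _, mk_dec H h⟩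
  have h2 := h1.map (f0 s)
  rw [map_add, map_one, map_mul, map_mul] at h2
  exact h2

end local'

section nat

variable {R R' : CommRingCat.{u}} {s : Spec R ⟶ S} {s' : Spec R' ⟶ S} (h : Over.mk s' ⟶ Over.mk s)

lemma preimage_comp : Spec.map (CommRingCat.ofHom (Spec.preimage h.left).hom) ≫ s = s' := by
  have h1 := Over.w h
  have h2 : Spec.map (CommRingCat.ofHom (Spec.preimage h.left).hom) = h.left := Spec.map_preimage _
  rw [h2]
  exact h1

lemma appTop_f0 (x : R) : h.left.appTop (f0 s x) = f0 s' ((Spec.preimage h.left).hom x) := by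
  have h1 := congrArg CommRingCat.Hom.hom (Scheme.ΓSpecIso_inv_naturality (Spec.preimage h.left))
  rw [Spec.map_preimage] at h1
  exact (DFunLike.congr_fun h1 x).symm

lemma aG_nat : h.left.appTop (aG H hnc s : Γ((Over.mk s).left, ⊤)) = aG H hnc s' := by
  rw [aG_val, aG_val, appTop_f0, a_change H _ (preimage_comp h)]

lemma uOf_nat (g : Over.mk s ⟶ Red.Gm S) :
    uOf s' (h ≫ g) = Units.map ((Spec.preimage h.left).hom : R →* R') (uOf s g) := by
  apply Units.ext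
  apply (f0 s').injective
  rw [f0_uOf, gmFn_comp, ← f0_uOf s g, appTop_f0]
  rfl

lemma cocG_nat (g : Over.mk s ⟶ Red.Gm S) : cocG H hnc s' (h ≫ g) = h ≫ cocG H hnc s g := by
  unfold cocG
  rw [uOf_nat, coc_change H (Spec.preimage h.left).hom (preimage_comp h) (isUnit_a H hnc s)
    (isUnit_a H hnc s') (uOf s g) rfl, ← Category.assoc, ← Category.assoc]
  congr 1
  apply Over.OverMorphism.ext
  change 𝟙 _ ≫ Spec.map (CommRingCat.ofHom (Spec.preimage h.left).hom) = h.left ≫ 𝟙 _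
  rw [Category.id_comp, Category.comp_id]
  exact Spec.map_preimage _

end nat

section glob

include H hnc

lemma exists_q1 : ∃ q : 𝟙_ (Over S) ⟶ Red.Gm S, ∀ (R : CommRingCat.{u}) (s : Spec R ⟶ S)
    (g : Over.mk s ⟶ 𝟙_ (Over S)), g ≫ q = gmPt (Over.mk s) (aG H hnc s) := by
  obtain ⟨q, hq, -⟩ := AffYoneda.existsUnique_hom (G := 𝟙_ (Over S)) (G' := Red.Gm S)
    (fun R s _ => gmPt (Over.mk s) (aG H hnc s)) (by
      intro R R' s s' h g
      apply gmFn_injective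
      rw [gmFn_comp, gmFn_gmPt, gmFn_gmPt, aG_nat])
  exact ⟨q, hq⟩

lemma exists_q2 : ∃ q : Red.Gm S ⟶ T, ∀ (R : CommRingCat.{u}) (s : Spec R ⟶ S)
    (g : Over.mk s ⟶ Red.Gm S), g ≫ q = cocG H hnc s g := by
  obtain ⟨q, hq, -⟩ := AffYoneda.existsUnique_hom (G := Red.Gm S) (G' := T)
    (fun R s g => cocG H hnc s g) (by
      intro R R' s s' h g
      exact cocG_nat H hnc h g)
  exact ⟨q, hq⟩

end glob

/-- A function on a scheme which is a unit on all affine points is a unit. -/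
lemma isUnit_of_affine {X : Over S} (f : Γ(X.left, ⊤))
    (h : ∀ (R : CommRingCat.{u}) (s : Spec R ⟶ S) (g : Over.mk s ⟶ X), IsUnit (g.left.appTop f)) :
    IsUnit f := by
  refine RingedSpace.isUnit_of_isUnit_germ _ ⊤ _ fun x hx => ?_
  have h1 : x ∈ X.left.basicOpen f := by
    let 𝒰 := X.left.affineOpenCover
    obtain ⟨i, y, hy⟩ := 𝒰.openCover.exists_eq x
    have h2 := h (𝒰.X i) (𝒰.f i ≫ X.hom) (Over.homMk (𝒰.f i) rfl)
    have h3 : (𝒰.f i) ⁻¹ᵁ X.left.basicOpen f = (Spec (𝒰.X i)).basicOpen ((𝒰.f i).appTop f) :=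
      Scheme.preimage_basicOpen_top _ _
    have h4 : (Spec (𝒰.X i)).basicOpen ((𝒰.f i).appTop f) = ⊤ := by
      exact Scheme.basicOpen_of_isUnit _ h2
    rw [h4] at h3
    have h5 : y ∈ (𝒰.f i) ⁻¹ᵁ X.left.basicOpen f := by rw [h3]; trivial
    rw [← hy]
    exact h5
  exact (Scheme.mem_basicOpen_top _ _ _).mp h1

end Groth.Agent.Sga3.H811.Glob
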