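import Groth.Agent.Sga3.H811.Dual

/-!
# Rank one systems: the constant `a` and the differential equations

* `RSys.a`: `A(ε, 1) = 1 - a ε`;
* `RSys.ch_eq`: `α(τ(v, 1))⁻¹ = w - a w² v`, `w = A(v, 1)`;
* `RSys.key`: `a (w (1 + a v) - 1) = 0` and `α(τ(v, 1))⁻¹ (1 + a v) = 1 - a B(v, 1)`.
-/

set_option autoImplicit false
universe u

open TrivSqZeroExt DualNumber

namespace Groth.Agent.Sga3.H811.Sys

namespace RSys

variable {R : Type u} [CommRing R] (S : RSys R)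

lemma exists_a : ∃ (a : R) (t : S.T (DualNumber R)), S.Dec (ε : DualNumber R) 1 (inl 1 - inr a) ε t := by
  obtain ⟨a', t', h⟩ := S.op.L_one (1 : R)
  have h0 : S.Dec (ε : DualNumber R) 1 a' ε t' := h
  have h1 := S.nat (TrivSqZeroExt.fstHom R R R) h0
  have h2 : (TrivSqZeroExt.fstHom R R R) ε = 0 := rfl
  have h3 : (TrivSqZeroExt.fstHom R R R) 1 = 1 := rfl
  rw [h2, h3] at h1
  have h4 : a'.fst = 1 := (S.uniq h1 (S.zero_left _)).1
  refine ⟨-a'.snd, t', ?_⟩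
  have h5 : (inl 1 - inr (-a'.snd) : DualNumber R) = a' := by
    apply TrivSqZeroExt.ext <;> simp [h4]
  rw [h5]
  exact h0

/-- the constant of the system -/
noncomputable def a : R := S.exists_a.choose

section

variable {C : Type u} [CommRing C] [Algebra R C]

/-- the constant in an `R`-algebra -/
noncomputable def aC (C : Type u) [CommRing C] [Algebra R C] : C := algebraMap R C S.a

lemma map_aC {D : Type u} [CommRing D] [Algebra R D] (f : C →ₐ[R] D) : f (S.aC C) = S.aC D :=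
  f.commutes _

lemma dec_eps (e : C) (he : e * e = 0) : ∃ t, S.Dec e 1 (1 - S.aC C * e) e t := by
  obtain ⟨t, ht⟩ := S.exists_a.choose_spec
  have h := S.nat (dl (Algebra.ofId R C) e he) ht
  refine ⟨_, S.dec_congr h ?_ ?_ ?_ ?_ rfl⟩
  · rw [dl_eps]
  · rw [map_one]
  · rw [map_sub, dl_inl, dl_inr, map_one]
    rfl
  · rw [dl_eps]

lemma taylor {v w b : C} {t : S.T C} (h : S.Dec v 1 w b t) (e : C) (he : e * e = 0) :
    ∃ t', S.Dec (v + e) 1 (w - S.aC C * w ^ 2 * e) (b + ((S.ch t)⁻¹ : Cˣ) * e) t' := by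
  obtain ⟨w, rfl⟩ := S.isUnit_of_dec h
  have he' : (e * w) * (e * w) = 0 := by linear_combination (w : C) ^ 2 * he
  obtain ⟨t', h'⟩ := S.dec_eps (e * w) he'
  refine ⟨_, S.dec_congr (S.e1' h h') (add_comm _ _) rfl ?_ ?_ rfl⟩
  · ring
  · have : ((w⁻¹ : Cˣ) : C) * (e * w) = e := by
      rw [mul_comm e, ← mul_assoc, Units.inv_mul, one_mul]
    rw [this, add_comm]

lemma ch_inv_map {D : Type u} [CommRing D] [Algebra R D] (φ : C →ₐ[R] D) (t : S.T C) :
    (((S.ch (S.map φ t))⁻¹ : Dˣ) : D) = φ ((S.ch t)⁻¹ : Cˣ) := by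
  apply Units.inv_eq_of_mul_eq_one_right
  rw [S.ch_map, ← map_mul, Units.mul_inv, map_one]

/-- `α(τ(v, 1))⁻¹` -/
lemma ch_eq {v w b : C} {t : S.T C} (h : S.Dec v 1 w b t) :
    (((S.ch t)⁻¹ : Cˣ) : C) = w - S.aC C * w ^ 2 * v := by
  have h1 := S.nat (TrivSqZeroExt.inlAlgHom R C C) h
  obtain ⟨b', t', h2⟩ := S.L_one b
  have h3 : S.Dec (inl v) 1 (inl w) (inl b : DualNumber C) (S.map (TrivSqZeroExt.inlAlgHom R C C) t) :=
    S.dec_congr h1 rfl (map_one _) rfl rfl rfl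
  have h4 := S.e2 h3 h2
  obtain ⟨t'', h5⟩ := S.taylor h3 (inr v) (inr_mul_self v)
  let z : (DualNumber C)ˣ := ⟨1 - ε, 1 + ε, by
    linear_combination - (DualNumber.eps_mul_eps (R := C)), by
    linear_combination - (DualNumber.eps_mul_eps (R := C))⟩
  have h6 := S.equi z h5
  have e1 : (z : DualNumber C) * (inl v + inr v) = inl v := by
    apply TrivSqZeroExt.ext <;> simp [z]
  have e2 : ((z⁻¹ : (DualNumber C)ˣ) : DualNumber C) * 1 = 1 + ε := mul_one _
  rw [e1, e2] at h6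
  have h7 := congrArg TrivSqZeroExt.snd (S.uniq h4 h6).1
  have e3 : (((S.ch (S.map (TrivSqZeroExt.inlAlgHom R C C) t))⁻¹ : (DualNumber C)ˣ) : DualNumber C) =
      inl (((S.ch t)⁻¹ : Cˣ) : C) := S.ch_inv_map _ _
  rw [e3] at h7
  have e4 : ((z⁻¹ : (DualNumber C)ˣ) : DualNumber C) = 1 + ε := rfl
  have e5 : S.aC (DualNumber C) = inl (S.aC C) := (S.map_aC (TrivSqZeroExt.inlAlgHom R C C)).symm
  rw [e4, e5] at h7
  simp at h7
  rw [h7]
  ring

/-- The two ways to expand at `v + ε`. -/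
lemma key {v w b : C} {t : S.T C} (h : S.Dec v 1 w b t) :
    S.aC C * (w * (1 + S.aC C * v) - 1) = 0 ∧
      (((S.ch t)⁻¹ : Cˣ) : C) * (1 + S.aC C * v) = 1 - S.aC C * b := by
  have h1 := S.nat (TrivSqZeroExt.inlAlgHom R C C) h
  have h3 : S.Dec (inl v) 1 (inl w) (inl b : DualNumber C) (S.map (TrivSqZeroExt.inlAlgHom R C C) t) :=
    S.dec_congr h1 rfl (map_one _) rfl rfl rfl
  obtain ⟨t1, h4⟩ := S.taylor h3 ε DualNumber.eps_mul_eps
  obtain ⟨t2, h5⟩ := S.taylor h3 (inr (-(S.aC C * v))) (inr_mul_self _)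
  obtain ⟨te, h6⟩ := S.dec_eps (ε : DualNumber C) DualNumber.eps_mul_eps
  have e3 : (((S.ch (S.map (TrivSqZeroExt.inlAlgHom R C C) t))⁻¹ : (DualNumber C)ˣ) : DualNumber C) =
      inl (((S.ch t)⁻¹ : Cˣ) : C) := S.ch_inv_map _ _
  have e5 : S.aC (DualNumber C) = inl (S.aC C) := (S.map_aC (TrivSqZeroExt.inlAlgHom R C C)).symm
  have h7 := S.ch_eq h6
  rw [e5] at h4 h5 h6 h7
  rw [e3] at h4 h5
  let z : (DualNumber C)ˣ := ⟨1 - inl (S.aC C) * ε, 1 + inl (S.aC C) * ε, by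
    linear_combination - (inl (S.aC C)) ^ 2 * (DualNumber.eps_mul_eps (R := C)), by
    linear_combination - (inl (S.aC C)) ^ 2 * (DualNumber.eps_mul_eps (R := C))⟩
  have h6' : S.Dec (ε : DualNumber C) 1 (z : (DualNumber C)ˣ) ε te := h6
  have e6 : inl v + inr (-(S.aC C * v)) = inl v * (z : DualNumber C) := by
    apply TrivSqZeroExt.ext <;> simp [z, mul_comm]
  rw [e6] at h5
  have h8 := S.e1' h6' h5
  obtain ⟨q1, q2, -⟩ := S.uniq h4 h8
  have e7 : ((z⁻¹ : (DualNumber C)ˣ) : DualNumber C) = 1 + inl (S.aC C) * ε := rfl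
  have e8 : (z : DualNumber C) = 1 - inl (S.aC C) * ε := rfl
  rw [e8] at q1
  rw [e7, h7] at q2
  have q1' := congrArg TrivSqZeroExt.snd q1
  have q2' := congrArg TrivSqZeroExt.snd q2
  simp at q1' q2'
  refine ⟨?_, by linear_combination q2'⟩
  refine (S.isUnit_of_dec h).mul_left_cancel ?_
  linear_combination -q1'

/-- If `a` is a unit then everything is determined. -/
theorem main_of_unit (ha : IsUnit S.a) {v w b : C} {t : S.T C} (h : S.Dec v 1 w b t) :
    w * (1 + S.aC C * v) = 1 ∧ b = w * v ∧ ((S.ch t : Cˣ) : C) = (1 + S.aC C * v) ^ 2 := by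
  have ha' : IsUnit (S.aC C) := ha.map (algebraMap R C)
  obtain ⟨h1, h2⟩ := S.key h
  have h3 : w * (1 + S.aC C * v) = 1 := by
    have := ha'.mul_left_cancel (h1.trans (mul_zero _).symm)
    linear_combination this
  have h4 := S.ch_eq h
  have h5 : (((S.ch t)⁻¹ : Cˣ) : C) = w ^ 2 := by
    rw [h4]
    linear_combination (-w) * h3
  refine ⟨h3, ?_, ?_⟩
  · refine ha'.mul_left_cancel ?_
    rw [h5] at h2
    linear_combination h2 - (w + 1) * h3
  · have h6 : ((S.ch t : Cˣ) : C) * w ^ 2 = 1 := by rw [← h5, Units.mul_inv]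
    calc ((S.ch t : Cˣ) : C) = (S.ch t : Cˣ) * (w * (1 + S.aC C * v)) ^ 2 := by rw [h3]; ring
      _ = ((S.ch t : Cˣ) * w ^ 2) * (1 + S.aC C * v) ^ 2 := by ring
      _ = _ := by rw [h6, one_mul]

end

end RSys

end Groth.Agent.Sga3.H811.Sys
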