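import Groth.Agent.Sga3.H811.Pts
import Groth.Agent.Sga3.H811.Ext
import Groth.Agent.Sga3B.BorLoc613

/-!
# Lifting points along a fibrewise non-trivial character of a torus
-/

set_option autoImplicit false
universe u
open CategoryTheory MonoidalCategory CartesianMonoidalCategory MonObj GrpObj AlgebraicGeometry Limits

namespace Groth.Agent.Sga3.H811.Lift

open Groth.Agent.Sga3B Groth.Agent.Sga3B.DSPts Groth.Agent.Sga3B.GaPts Groth.Agent.Sga3B.RedIso
open Groth.Agent.Sga3.H811.Pts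

section epi

/-- A jointly surjective family of flat morphisms is jointly epimorphic. -/
lemma eq_of_flat_family {X Y : Scheme.{u}} (a b : X ⟶ Y) (h : ∀ x : X, ∃ (Z : Scheme.{u}) (g : Z ⟶ X),
    Flat g ∧ x ∈ Set.range g ∧ g ≫ a = g ≫ b) : a = b := by
  choose Z g hg hx hab using h
  let F : (∐ fun x : X => Z x) ⟶ X := Sigma.desc g
  have hF : Flat F := IsZariskiLocalAtSource.sigmaDesc (P := @Flat) hg
  have hs : Surjective F := by
    constructor
    intro x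
    obtain ⟨z, hz⟩ := hx x
    refine ⟨(Sigma.ι (fun x : X => Z x) x) z, ?_⟩
    rw [← Scheme.Hom.comp_apply, Sigma.ι_desc, hz]
  have : Epi F := Flat.epi_of_flat_of_surjective F
  rw [← cancel_epi F]
  apply Sigma.hom_ext
  intro x
  rw [Sigma.ι_desc_assoc, Sigma.ι_desc_assoc, hab x]

end epi

section root

lemma flat_surjective_of {A B : CommRingCat.{u}} (f : A ⟶ B) (h : f.hom.FaithfullyFlat) :
    Flat (Spec.map f) ∧ Surjective (Spec.map f) := by
  rw [RingHom.FaithfullyFlat.iff_flat_and_comap_surjective] at h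
  exact ⟨Flat.SpecMap_iff.mpr h.1, ⟨h.2⟩⟩

/-- extracting an `n`-th root of a function -/
lemma exists_root_fn (R₁ : CommRingCat.{u}) [Nontrivial R₁] (ζ : Γ(Spec R₁, ⊤)) (n : ℕ) (hn : n ≠ 0) :
    ∃ (D : CommRingCat.{u}) (f : Spec D ⟶ Spec R₁) (ω : Γ(Spec D, ⊤)), Flat f ∧ Surjective f ∧
      ω ^ n = f.appTop ζ := by
  let ζ' : R₁ := (Scheme.ΓSpecIso R₁).hom ζ
  let F : Polynomial R₁ := Polynomial.X ^ n - Polynomial.C ζ'
  have hF : F.Monic := Polynomial.monic_X_pow_sub_C ζ' hn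
  have hd : F.natDegree ≠ 0 := by rw [Polynomial.natDegree_X_pow_sub_C]; exact hn
  obtain ⟨D, _, _, f, z, hf, hz⟩ := Groth.Agent.Sga3.H811.Sys.exists_root (R := R₁) F hF hd
  obtain ⟨h1, h2⟩ := flat_surjective_of (CommRingCat.ofHom (f : R₁ →+* D)) hf
  refine ⟨CommRingCat.of D, Spec.map (CommRingCat.ofHom (f : R₁ →+* D)),
    (Scheme.ΓSpecIso (CommRingCat.of D)).inv z, h1, h2, ?_⟩
  have h3 : z ^ n = f ζ' := by
    simp only [F, Polynomial.eval₂_sub, Polynomial.eval₂_pow, Polynomial.eval₂_X,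
      Polynomial.eval₂_C] at hz
    exact sub_eq_zero.mp hz
  have h4 : ζ = (Scheme.ΓSpecIso R₁).inv ζ' := by
    change ζ = ((Scheme.ΓSpecIso R₁).hom ≫ (Scheme.ΓSpecIso R₁).inv) ζ
    rw [Iso.hom_inv_id]; rfl
  have h5 := congrArg (fun k => CommRingCat.Hom.hom k ζ')
    (Scheme.ΓSpecIso_inv_naturality (CommRingCat.ofHom (f : R₁ →+* D)))
  rw [h4]
  refine Eq.trans ?_ h5
  change _ = (Scheme.ΓSpecIso (CommRingCat.of D)).inv (f ζ')
  rw [← h3, map_pow]

end root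

section local'

variable {S : Scheme.{u}} {T : Over S} [GrpObj T]

/-- Local form of a character of a torus. -/
lemma exists_local (hT : Red.IsTorus T) (α : T ⟶ Red.Gm S) [IsMonHom α] (s : S) :
    ∃ (U : Scheme.{u}) (h : U ⟶ S) (V : U.Opens) (u₀ : U) (r : ℕ) (m : Fin r → ℤ),
      Flat h ∧ u₀ ∈ V ∧ h u₀ = s ∧
      ∀ Y : Over U, Set.range Y.hom ⊆ (V : Set U) →
        (∀ χ : Multiplicative (Fin r → ℤ) →* Γ(Y.left, ⊤), ∃ t : (Over.map h).obj Y ⟶ T,
          Red.gmFn (t ≫ α) = χ (Multiplicative.ofAdd m)) ∧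
        (∀ t : (Over.map h).obj Y ⟶ T, ∃ χ : Multiplicative (Fin r → ℤ) →* Γ(Y.left, ⊤),
          Red.gmFn (t ≫ α) = χ (Multiplicative.ofAdd m)) := by
  obtain ⟨S', g, hflat, hsurj, -, hloc⟩ := hT
  obtain ⟨s', rfl⟩ := g.surjective s
  obtain ⟨U, hU, r, ⟨e⟩⟩ := hloc s'
  let h : U.toScheme ⟶ S := U.ι ≫ g
  let β : Red.DS U.toScheme (Fin r → ℤ) ⟶ Red.DS U.toScheme ℤ :=
    (und e).inv ≫ (Over.pullback h).map α ≫ (und (DsBc.constIso h (Red.diag (ULift.{u} ℤ) ℤ))).hom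
  have hβ : IsMonHom β := inferInstance
  obtain ⟨V, hV, φ, hφ⟩ := BorLoc613.exists_near β (⟨s', hU⟩ : U.toScheme)
  refine ⟨U.toScheme, h, V, ⟨s', hU⟩, r, φ 1, inferInstance, hV, ?_, ?_⟩
  · change (U.ι ≫ g) _ = _
    rw [Scheme.Hom.comp_apply]
    rfl
  intro Y hY
  have key : ∀ q : Y ⟶ Red.DS U.toScheme (Fin r → ℤ),
      Red.gmFn ((DSPts.bcEquiv h Y T).symm (q ≫ (und e).inv) ≫ α) =
        dsChar q (Multiplicative.ofAdd (φ 1)) := by
    intro q
    have h1 : (DSPts.bcEquiv h Y T).symm (q ≫ (und e).inv) ≫ α =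
        (DSPts.bcEquiv h Y (Red.Gm S)).symm ((q ≫ (und e).inv) ≫ (Over.pullback h).map α) :=
      (DsBc.symm_comp h _ _).symm
    rw [h1, DsBc.gmFn_eq, ← DsBc.cFst_constIso, ← DsBc.gmFn_eq]
    have h2 : ((q ≫ (und e).inv) ≫ (Over.pullback h).map α) ≫
        (und (DsBc.constIso h (Red.diag (ULift.{u} ℤ) ℤ))).hom = q ≫ β := by
      simp only [β, Category.assoc]
    rw [h2, hφ Y q hY, Groth.Agent.Sga3B.GaPts.gmFn_eq, dsChar_DSmap]
    rfl
  constructor
  · intro χ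
    refine ⟨(DSPts.bcEquiv h Y T).symm (dsEquiv Y _ χ ≫ (und e).inv), ?_⟩
    rw [key, dsChar_dsEquiv]
  · intro t
    refine ⟨dsChar (DSPts.bcEquiv h Y T t ≫ (und e).hom), ?_⟩
    rw [← key, Category.assoc, Iso.hom_inv_id, Category.comp_id, MulEquiv.symm_apply_apply]

/-- The local weight is non-zero. -/
lemma weight_ne_zero (α : T ⟶ Red.Gm S) [IsMonHom α] (s : S)
    (hα : (Over.pullback (Red.geomPt s)).map α ≠ 1) {U : Scheme.{u}} (h : U ⟶ S) [Flat h] (V : U.Opens)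
    (u₀ : U) {r : ℕ} (m : Fin r → ℤ) (hV : u₀ ∈ V) (hu : h u₀ = s)
    (H : ∀ Y : Over U, Set.range Y.hom ⊆ (V : Set U) →
        (∀ t : (Over.map h).obj Y ⟶ T, ∃ χ : Multiplicative (Fin r → ℤ) →* Γ(Y.left, ⊤),
          Red.gmFn (t ≫ α) = χ (Multiplicative.ofAdd m))) : m ≠ 0 := by
  rintro rfl
  apply hα
  -- every point over the geometric point is killed
  have key : ∀ (Z : Over S) (hZ : ∀ z : Z.left, Z.hom z = s) (t : Z ⟶ T), t ≫ α = 1 := by
    intro Z hZ t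
    have h1 : Flat (pullback.fst Z.hom (V.ι ≫ h)) := inferInstance
    have h2 : Surjective (pullback.fst Z.hom (V.ι ≫ h)) := by
      constructor
      intro z
      obtain ⟨w, hw, -⟩ := Scheme.Pullback.exists_preimage_pullback (f := Z.hom) (g := V.ι ≫ h) z
        ⟨u₀, hV⟩ (by
          rw [hZ z, Scheme.Hom.comp_apply]
          exact hu.symm)
      exact ⟨w, hw⟩
    let Y : Over U := Over.mk (pullback.snd Z.hom (V.ι ≫ h) ≫ V.ι)
    have hY : Set.range Y.hom ⊆ (V : Set U) := by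
      rintro _ ⟨y, rfl⟩
      change (pullback.snd Z.hom (V.ι ≫ h) ≫ V.ι) y ∈ _
      rw [Scheme.Hom.comp_apply]
      exact (pullback.snd Z.hom (V.ι ≫ h) y).2
    let f : (Over.map h).obj Y ⟶ Z := Over.homMk (pullback.fst Z.hom (V.ι ≫ h)) (by
      simp only [Y, Over.map_obj_hom, Over.mk_hom, Category.assoc]
      exact pullback.condition)
    obtain ⟨χ, hχ⟩ := H Y hY (f ≫ t)
    have h3 : χ (Multiplicative.ofAdd 0) = 1 := map_one χ
    rw [h3, ← gmFn_one (X := (Over.map h).obj Y)] at hχ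
    have h4 := gmFn_injective _ hχ
    have h5 : Epi f.left := Flat.epi_of_flat_of_surjective (pullback.fst Z.hom (V.ι ≫ h))
    have h6 : Epi f := Over.epi_of_epi_left f
    rw [← cancel_epi f, ← Category.assoc, h4, MonObj.comp_one]
  have h1 := key ((Over.map (Red.geomPt s)).obj (Red.bc (Red.geomPt s) T)) (by
    intro z
    change ((Red.bc (Red.geomPt s) T).hom ≫ Red.geomPt s) z = s
    rw [Scheme.Hom.comp_apply]
    have h2 : (Red.geomPt s) ((Red.bc (Red.geomPt s) T).hom z) ∈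
        Set.range (S.fromSpecResidueField s) := by
      change (Spec.map _ ≫ S.fromSpecResidueField s) _ ∈ _
      rw [Scheme.Hom.comp_apply]
      exact ⟨_, rfl⟩
    rw [Scheme.range_fromSpecResidueField, Set.mem_singleton_iff] at h2
    exact h2) ((DSPts.bcEquiv (Red.geomPt s) _ T).symm (𝟙 _))
  have h2 := DSPts.bcEquiv_comp (Red.geomPt s) (T := Red.bc (Red.geomPt s) T)
    ((DSPts.bcEquiv (Red.geomPt s) _ T).symm (𝟙 _)) α
  rw [h1, map_one, MulEquiv.apply_symm_apply, Category.id_comp] at h2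
  exact h2

end local'

section main

variable {S : Scheme.{u}} {T : Over S} [GrpObj T]

/-- Points of `𝔾_m` lift flat-locally along a fibrewise non-trivial character of a torus. -/
theorem exists_lift (hT : Red.IsTorus T) (α : T ⟶ Red.Gm S) [IsMonHom α]
    (hα : ∀ s : S, (Over.pullback (Red.geomPt s)).map α ≠ 1) (X : Over S) (z : X ⟶ Red.Gm S)
    (x : X.left) : ∃ (X' : Over S) (f : X' ⟶ X) (t : X' ⟶ T), Flat f.left ∧
      x ∈ Set.range f.left ∧ t ≫ α = f ≫ z := by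
  obtain ⟨U, h, V, u₀, r, m, hfl, hu₀, hs, H⟩ := exists_local hT α (X.hom x)
  have hm := weight_ne_zero α (X.hom x) (hα _) h V u₀ m hu₀ hs (fun Y hY => (H Y hY).2)
  obtain ⟨j, hj⟩ : ∃ j, m j ≠ 0 := by
    by_contra hne
    push Not at hne
    exact hm (funext hne)
  obtain ⟨w, hw, -⟩ := Scheme.Pullback.exists_preimage_pullback (f := X.hom) (g := V.ι ≫ h) x
    ⟨u₀, hu₀⟩ (by
      rw [Scheme.Hom.comp_apply]
      exact hs.symm)
  let W := pullback X.hom (V.ι ≫ h)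
  obtain ⟨R₁, v, hv, hwv, -⟩ := BorLoc613.exists_spec_nhd (S := W) ⊤ (s := w) trivial
  obtain ⟨w', hw'⟩ := hwv
  have hnt : Nontrivial R₁ := by
    have : Nonempty (PrimeSpectrum R₁) := ⟨w'⟩
    exact PrimeSpectrum.nonempty_iff_nontrivial.mp this
  let X₁ : Over S := Over.mk (v ≫ pullback.fst X.hom (V.ι ≫ h) ≫ X.hom)
  let f₁ : X₁ ⟶ X := Over.homMk (v ≫ pullback.fst X.hom (V.ι ≫ h)) (by simp [X₁])
  obtain ⟨D, p, ω, hp, hps, hω⟩ := exists_root_fn R₁ (Red.gmFn (f₁ ≫ z)) (m j).natAbs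
    (Int.natAbs_ne_zero.mpr hj)
  have hωu : IsUnit ω := by
    rw [← isUnit_pow_iff (Int.natAbs_ne_zero.mpr hj), hω]
    have h0 : IsUnit (M := Γ(Spec R₁, ⊤)) (Red.gmFn (f₁ ≫ z)) := isUnit_gmFn (f₁ ≫ z)
    exact h0.map p.appTop.hom
  let Y : Over U := Over.mk (p ≫ v ≫ pullback.snd X.hom (V.ι ≫ h) ≫ V.ι)
  have hY : Set.range Y.hom ⊆ (V : Set U) := by
    rintro _ ⟨y, rfl⟩
    change (p ≫ v ≫ pullback.snd X.hom (V.ι ≫ h) ≫ V.ι) y ∈ _
    rw [← Category.assoc, ← Category.assoc, Scheme.Hom.comp_apply]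
    exact ((((p ≫ v) ≫ pullback.snd X.hom (V.ι ≫ h)) y)).2
  let c : (Fin r → ℤ) →+ ℤ := (AddMonoidHom.mulLeft (m j).sign).comp (Pi.evalAddMonoidHom (fun _ => ℤ) j)
  let χ : Multiplicative (Fin r → ℤ) →* Γ(Y.left, ⊤) :=
    ((Units.coeHom _).comp (zpowersHom _ hωu.unit)).comp (AddMonoidHom.toMultiplicative c)
  obtain ⟨t, ht⟩ := (H Y hY).1 χ
  let f₂ : (Over.map h).obj Y ⟶ X₁ := Over.homMk p (by
    simp only [X₁, Y, Over.map_obj_hom, Over.mk_hom, Category.assoc]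
    rw [pullback.condition])
  refine ⟨(Over.map h).obj Y, f₂ ≫ f₁, t, ?_, ?_, ?_⟩
  · have : Flat (p ≫ v ≫ pullback.fst X.hom (V.ι ≫ h)) := inferInstance
    exact this
  · obtain ⟨y, hy⟩ := p.surjective w'
    refine ⟨y, ?_⟩
    change (p ≫ v ≫ pullback.fst X.hom (V.ι ≫ h)) y = x
    rw [Scheme.Hom.comp_apply, Scheme.Hom.comp_apply, hy, hw', hw]
  · apply gmFn_injective
    rw [ht, Category.assoc, gmFn_comp]
    change χ (Multiplicative.ofAdd m) = p.appTop (Red.gmFn (f₁ ≫ z))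
    rw [← hω]
    change ((hωu.unit ^ ((m j).sign * m j) : _ˣ) : _) = ω ^ (m j).natAbs
    rw [Int.sign_mul_self_eq_natAbs, zpow_natCast, Units.val_pow_eq_pow_val, IsUnit.unit_spec]

end main

end Groth.Agent.Sga3.H811.Lift
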