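import Groth.Agent.Sga3.H811.Gen

/-!
# Rank one systems: the commutation formula when the constant `a` is a unit

* `RSys.coc`: the cocharacter on points;
* `RSys.dec_iff`: `p(x) q(y)` is in the cell iff `1 + a x y` is a unit;
* `RSys.dec_formula`: `p(x) q(y) = q(y / z) α*(z) p(x / z)`, `z = 1 + a x y`.
-/

set_option autoImplicit false
universe u

open Polynomial

namespace Groth.Agent.Sga3.H811.Sys

namespace RSys

variable {R : Type u} [CommRing R] (S : RSys R) (ha : IsUnit S.a)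

section

variable {C : Type u} [CommRing C] [Algebra R C]

/-- the inverse of the constant -/
noncomputable def ai (C : Type u) [CommRing C] [Algebra R C] : C := algebraMap R C (ha.unit⁻¹ : Rˣ)

lemma ai_mul : S.ai ha C * S.aC C = 1 := by
  rw [ai, aC, ← map_mul]
  have : ((ha.unit⁻¹ : Rˣ) : R) * S.a = 1 := ha.val_inv_mul
  rw [this, map_one]

lemma map_ai {D : Type u} [CommRing D] [Algebra R D] (f : C →ₐ[R] D) : f (S.ai ha C) = S.ai ha D :=
  f.commutes _

lemma exists_coc (z : Cˣ) : ∃ t : S.T C,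
    S.Dec (S.ai ha C * (z - 1)) 1 ((z⁻¹ : Cˣ) : C) ((z⁻¹ : Cˣ) * (S.ai ha C * (z - 1))) t := by
  have h1 : 1 + S.aC C * (S.ai ha C * (z - 1)) = (z : C) := by
    linear_combination ((z : C) - 1) * S.ai_mul ha (C := C)
  obtain ⟨w, b, t, h⟩ := S.good_of_isUnit ha (u := S.ai ha C * (z - 1)) (by rw [h1]; exact z.isUnit)
  obtain ⟨e1, e2, -⟩ := S.main_of_unit ha h
  rw [h1] at e1
  have e3 : w = ((z⁻¹ : Cˣ) : C) := (Units.inv_eq_of_mul_eq_one_left e1).symm
  rw [e2, e3] at h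
  exact ⟨t, h⟩

/-- the cocharacter on points -/
noncomputable def coc (z : Cˣ) : S.T C := (S.exists_coc ha z).choose

lemma dec_coc (z : Cˣ) :
    S.Dec (S.ai ha C * (z - 1)) 1 ((z⁻¹ : Cˣ) : C) ((z⁻¹ : Cˣ) * (S.ai ha C * (z - 1)))
      (S.coc ha z) := (S.exists_coc ha z).choose_spec

lemma coc_unique {u w b : C} {t : S.T C} (h : S.Dec u 1 w b t) (z : Cˣ)
    (hz : 1 + S.aC C * u = z) : t = S.coc ha z := by
  have h1 : S.ai ha C * (z - 1) = u := by
    rw [← hz]
    linear_combination u * S.ai_mul ha (C := C)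
  have h2 := S.dec_coc ha z
  rw [h1] at h2
  exact (S.uniq h h2).2.2

lemma dec_one (z : Cˣ) {u : C} (hz : 1 + S.aC C * u = z) :
    S.Dec u 1 ((z⁻¹ : Cˣ) : C) ((z⁻¹ : Cˣ) * u) (S.coc ha z) := by
  have h1 : S.ai ha C * (z - 1) = u := by
    rw [← hz]
    linear_combination u * S.ai_mul ha (C := C)
  have h2 := S.dec_coc ha z
  rwa [h1] at h2

lemma coc_mul (z z' : Cˣ) : S.coc ha (z * z') = S.coc ha z * S.coc ha z' := by
  have h1 := S.dec_coc ha z
  have h2 := S.dec_coc ha z'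
  have e1 : S.ai ha C * (z' - 1) = (z * (S.ai ha C * (z' - 1))) * ((z⁻¹ : Cˣ) : C) := by
    linear_combination (-(S.ai ha C * (z' - 1))) * z.mul_inv
  rw [e1] at h2
  have h3 := S.e1' h1 h2
  rw [mul_comm (S.coc ha z)]
  symm
  apply S.coc_unique ha h3
  rw [Units.val_mul]
  linear_combination ((z : C) * z' - 1) * S.ai_mul ha (C := C)

lemma coc_map {D : Type u} [CommRing D] [Algebra R D] (φ : C →ₐ[R] D) (z : Cˣ) :
    S.map φ (S.coc ha z) = S.coc ha (Units.map (φ : C →* D) z) := by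
  have h1 := S.nat φ (S.dec_coc ha z)
  rw [map_one] at h1
  apply S.coc_unique ha h1
  rw [map_mul, map_sub, map_one, S.map_ai]
  change 1 + S.aC D * (S.ai ha D * (φ z - 1)) = φ z
  linear_combination (φ z - 1) * S.ai_mul ha (C := D)

lemma ch_coc (z : Cˣ) : S.ch (S.coc ha z) = z ^ 2 := by
  obtain ⟨-, -, h⟩ := S.main_of_unit ha (S.dec_coc ha z)
  apply Units.ext
  rw [h, Units.val_pow_eq_pow_val]
  congr 1
  linear_combination ((z : C) - 1) * S.ai_mul ha (C := C)

/-- the formula when `y` is a unit. -/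
lemma dec_of_unit {x : C} {y : Cˣ} (z : Cˣ) (hz : 1 + S.aC C * x * y = z) :
    S.Dec x y ((z⁻¹ : Cˣ) * (y : C)) ((z⁻¹ : Cˣ) * x) (S.coc ha z) := by
  have h1 := S.equi y⁻¹ (S.dec_one ha z (u := x * y) (by rw [← mul_assoc]; exact hz))
  refine S.dec_congr h1 ?_ ?_ ?_ ?_ rfl
  · rw [mul_comm x, ← mul_assoc, Units.inv_mul, one_mul]
  · rw [inv_inv, mul_one]
  · rw [inv_inv, mul_comm]
  · rw [mul_comm ((z⁻¹ : Cˣ) : C) (x * y), mul_comm x, mul_assoc, ← mul_assoc, Units.inv_mul, one_mul,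
      mul_comm]

/-- A faithfully flat extension in which `y = y₁ + y₂` with units `y₁`, `y₂` and `1 + c y₁`. -/
lemma exists_split (c y : C) (u : Cˣ) (hu : 1 + c * y = u) :
    ∃ (D : Type u) (_ : CommRing D) (_ : Algebra R D) (f : C →ₐ[R] D) (y₁ : D),
      (f : C →+* D).FaithfullyFlat ∧ IsUnit y₁ ∧ IsUnit (f y - y₁) ∧ IsUnit (1 + f c * y₁) := by
  rcases subsingleton_or_nontrivial C with hC | hC
  · exact ⟨C, inferInstance, inferInstance, AlgHom.id R C, 0,
      RingHom.FaithfullyFlat.of_bijective Function.bijective_id, isUnit_of_subsingleton _,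
      isUnit_of_subsingleton _, isUnit_of_subsingleton _⟩
  let e : C := c ^ 2 * (u⁻¹ : Cˣ)
  let F : C[X] := X * (X - Polynomial.C y) * (X - Polynomial.C e) + 1
  have hm : (X * (X - Polynomial.C y) * (X - Polynomial.C e) : C[X]).Monic :=
    (monic_X.mul (monic_X_sub_C y)).mul (monic_X_sub_C e)
  have hd : (X * (X - Polynomial.C y) * (X - Polynomial.C e) : C[X]).natDegree = 3 := by
    rw [(monic_X.mul (monic_X_sub_C y)).natDegree_mul (monic_X_sub_C e),
      monic_X.natDegree_mul (monic_X_sub_C y), natDegree_X, natDegree_X_sub_C, natDegree_X_sub_C]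
  have hlt : (1 : C[X]).degree < (X * (X - Polynomial.C y) * (X - Polynomial.C e) : C[X]).degree := by
    rw [degree_eq_natDegree hm.ne_zero, hd, degree_one]
    decide
  have hF : F.Monic := hm.add_of_left hlt
  have hFd : F.natDegree ≠ 0 := by
    have : F.natDegree = 3 := by
      rw [← hd]
      exact natDegree_add_eq_left_of_degree_lt hlt
    rw [this]
    norm_num
  obtain ⟨D, i1, i2, f, z, h1, h2⟩ := exists_root (R := R) F hF hFd
  have h3 : z * (z - f y) * (z - f e) + 1 = 0 := by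
    simpa [F] using h2
  have hu' : 1 + f c * f y = f u := by rw [← map_mul, ← map_one f, ← map_add, hu]
  have he : f e * f u = f c ^ 2 := by
    rw [← map_mul, ← map_pow]
    congr 1
    rw [mul_assoc, Units.inv_mul, mul_one]
  refine ⟨D, i1, i2, f, z, h1, ?_, ?_, ?_⟩
  · exact IsUnit.of_mul_eq_one (-((z - f y) * (z - f e))) (by linear_combination -h3)
  · exact IsUnit.of_mul_eq_one (z * (z - f e)) (by linear_combination -h3)
  · have hfu : IsUnit (f u) := u.isUnit.map f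
    have key : ∃ q, (1 + f c * z) * q = f u * f u := by
      refine ⟨f u * (1 + f c * z) ^ 2 - (f u + f c ^ 3) * (1 + f c * z)
        - (1 + f u) * f u * (1 + f c * z) + (1 + f u) * (f u + f c ^ 3) + f u ^ 2, ?_⟩
      linear_combination (f u * f c ^ 3) * h3 +
        (f c * z) * (f u * (f c * z) - f c * f e * f u) * hu' +
        (f c * z) * (f c * z - f u + 1) * f c * he
    obtain ⟨q, hq⟩ := key
    exact isUnit_of_mul_isUnit_left (hq ▸ hfu.mul hfu)

/-- The commutation formula. -/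
theorem dec_formula {x y : C} (z : Cˣ) (hz : 1 + S.aC C * x * y = z) :
    S.Dec x y ((z⁻¹ : Cˣ) * y) ((z⁻¹ : Cˣ) * x) (S.coc ha z) := by
  obtain ⟨D, i1, i2, f, y₁, hf, h1, h2, h3⟩ := exists_split (R := R) (S.aC C * x) y z hz
  apply S.desc f hf
  rw [S.coc_map]
  obtain ⟨y₁, rfl⟩ := h1
  obtain ⟨y₂, hy₂⟩ := h2
  obtain ⟨z₁, hz₁⟩ := h3
  rw [map_mul, S.map_aC] at hz₁
  have g1 := S.dec_of_unit ha (x := f x) (y := y₁) z₁ hz₁.symm
  set zD : Dˣ := Units.map (f : C →* D) z with hzD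
  have hzD' : (zD : D) = 1 + S.aC D * f x * f y := by
    change f z = _
    rw [← hz, map_add, map_one, map_mul, map_mul, S.map_aC]
  have hz₂ : 1 + S.aC D * (((z₁⁻¹ : Dˣ) : D) * f x) * y₂ = ((z₁⁻¹ * zD : Dˣ) : D) := by
    rw [Units.val_mul, hzD', hy₂]
    have := z₁.inv_mul
    rw [hz₁] at this
    linear_combination -this
  have g2 := S.dec_of_unit ha (x := ((z₁⁻¹ : Dˣ) : D) * f x) (y := y₂) (z₁⁻¹ * zD) hz₂
  have g3 := S.e2 g1 g2
  have hfz : f ((z⁻¹ : Cˣ) : C) = ((zD⁻¹ : Dˣ) : D) := rfl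
  refine S.dec_congr g3 rfl ?_ ?_ ?_ ?_
  · rw [hy₂]; ring
  · rw [S.ch_coc, map_mul, hfz, mul_inv, inv_inv, Units.val_mul, ← inv_pow, Units.val_pow_eq_pow_val,
      hy₂]
    apply zD.isUnit.mul_left_cancel
    apply z₁.isUnit.mul_left_cancel
    have e1 := z₁.mul_inv
    have e2 := zD.mul_inv
    linear_combination ((zD : D) * y₁) * e1 + ((z₁ : D) * ((z₁⁻¹ : Dˣ) : D)) ^ 2 * (f y - y₁) * e2 +
      ((z₁ : D) * ((z₁⁻¹ : Dˣ) : D) + 1) * (f y - y₁) * e1 - (z₁ : D) * f y * e2 +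
      (y₁ : D) * hzD' - f y * hz₁
  · rw [map_mul, hfz, mul_inv, inv_inv, Units.val_mul]
    linear_combination (((zD⁻¹ : Dˣ) : D) * f x) * z₁.mul_inv
  · rw [← S.coc_mul, mul_inv_cancel_left]

include ha in
/-- `p(x) q(y)` is in the cell iff `1 + a x y` is a unit. -/
theorem dec_iff {x y : C} : (∃ a b t, S.Dec x y a b t) ↔ IsUnit (1 + S.aC C * x * y) := by
  constructor
  · rintro ⟨w, b, t, h⟩
    by_contra hu
    obtain ⟨m, hm, hwm⟩ := exists_max_ideal_of_mem_nonunits hu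
    let φ : C →ₐ[R] C ⧸ m := Ideal.Quotient.mkₐ R m
    have h0 : φ (1 + S.aC C * x * y) = 0 := Ideal.Quotient.eq_zero_iff_mem.mpr hwm
    rw [map_add, map_one, map_mul, map_mul, S.map_aC] at h0
    let := Ideal.Quotient.field m
    have hy : φ y ≠ 0 := by
      intro hy
      rw [hy, mul_zero, add_zero] at h0
      exact one_ne_zero h0
    have h1 := S.equi (Units.mk0 (φ y) hy) (S.nat φ h)
    have e1 : (((Units.mk0 (φ y) hy)⁻¹ : (C ⧸ m)ˣ) : C ⧸ m) * φ y = 1 :=
      (Units.mk0 (φ y) hy).inv_mul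
    rw [e1] at h1
    obtain ⟨h2, -, -⟩ := S.main_of_unit ha h1
    have e2 : 1 + S.aC (C ⧸ m) * ((Units.mk0 (φ y) hy : C ⧸ m) * φ x) = 0 := by
      rw [Units.val_mk0, mul_comm (φ y), ← mul_assoc]
      exact h0
    rw [e2, mul_zero] at h2
    exact zero_ne_one h2
  · rintro ⟨z, hz⟩
    exact ⟨_, _, _, S.dec_formula ha z hz.symm⟩

end

end RSys

end Groth.Agent.Sga3.H811.Sys
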