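import Mathlib.Algebra.DualNumber
import Mathlib.RingTheory.Spectrum.Prime.Basic
import Mathlib.RingTheory.Spectrum.Prime.RingHom
import Mathlib.RingTheory.RingHom.FaithfullyFlat
import Mathlib.RingTheory.AdjoinRoot
import Mathlib.RingTheory.Localization.Away.Basic
import Mathlib.Algebra.Polynomial.Basic
import Mathlib.RingTheory.Ideal.Quotient.Operations
import Mathlib.LinearAlgebra.FreeModule.Basic

/-!
# Abstract rank one systems

The functor-of-points form of a pair of opposite root homomorphisms `p`, `q : 𝔾_a → G` and a torus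
`T → G` such that `(y, t, x) ↦ q(y) t p(x)` is an open immersion: the relation
`Dec x y a b t` stands for `p(x) q(y) = q(a) t p(b)`.
-/

set_option autoImplicit false
universe u

namespace Groth.Agent.Sga3.H811.Sys

/-- Rank one systems: `Dec x y a b t` stands for `p(x) q(y) = q(a) t p(b)`. -/
structure RSys (R : Type u) [CommRing R] where
  /-- points of the torus -/
  T : (C : Type u) → [CommRing C] → [Algebra R C] → Type u
  [grp : ∀ (C : Type u) [CommRing C] [Algebra R C], CommGroup (T C)]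
  /-- functoriality of the points of the torus -/
  map : ∀ {C D : Type u} [CommRing C] [Algebra R C] [CommRing D] [Algebra R D],
    (C →ₐ[R] D) → (T C →* T D)
  /-- the character on points -/
  ch : ∀ {C : Type u} [CommRing C] [Algebra R C], T C →* Cˣ
  ch_map : ∀ {C D : Type u} [CommRing C] [Algebra R C] [CommRing D] [Algebra R D]
    (φ : C →ₐ[R] D) (t : T C), ((ch (map φ t) : Dˣ) : D) = φ (ch t : Cˣ)
  /-- the relation `p(x) q(y) = q(a) t p(b)` -/
  Dec : ∀ {C : Type u} [CommRing C] [Algebra R C], C → C → C → C → T C → Prop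
  uniq : ∀ {C : Type u} [CommRing C] [Algebra R C] {x y a b a' b' : C} {t t' : T C},
    Dec x y a b t → Dec x y a' b' t' → a = a' ∧ b = b' ∧ t = t'
  nat : ∀ {C D : Type u} [CommRing C] [Algebra R C] [CommRing D] [Algebra R D]
    (φ : C →ₐ[R] D) {x y a b : C} {t : T C}, Dec x y a b t →
    Dec (φ x) (φ y) (φ a) (φ b) (map φ t)
  zero_left : ∀ {C : Type u} [CommRing C] [Algebra R C] (y : C), Dec 0 y y 0 1
  zero_right : ∀ {C : Type u} [CommRing C] [Algebra R C] (x : C), Dec x 0 0 x 1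
  e1 : ∀ {C : Type u} [CommRing C] [Algebra R C] {x x' y a' b' a b : C} {t' t : T C},
    Dec x' y a' b' t' → Dec x a' a b t →
    Dec (x + x') y a (((ch t')⁻¹ : Cˣ) * b + b') (t * t')
  e2 : ∀ {C : Type u} [CommRing C] [Algebra R C] {x y y' a' b' a b : C} {t' t : T C},
    Dec x y a b t → Dec b y' a' b' t' →
    Dec x (y + y') (a + ((ch t)⁻¹ : Cˣ) * a') b' (t * t')
  equi : ∀ {C : Type u} [CommRing C] [Algebra R C] (z : Cˣ) {x y a b : C} {t : T C},
    Dec x y a b t → Dec (z * x) ((z⁻¹ : Cˣ) * y) ((z⁻¹ : Cˣ) * a) (z * b) t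
  good_of : ∀ {C : Type u} [CommRing C] [Algebra R C] {x y : C},
    (∀ 𝔭 : PrimeSpectrum C, ∃ (D : Type u) (_ : CommRing D) (_ : Algebra R D) (φ : C →ₐ[R] D),
      𝔭 ∈ Set.range (PrimeSpectrum.comap (φ : C →+* D)) ∧
        ∃ a b t, Dec (φ x) (φ y) a b t) → ∃ a b t, Dec x y a b t
  good_open : ∀ {C D : Type u} [CommRing C] [Algebra R C] [CommRing D] [Algebra R D]
    (φ : C →ₐ[R] D) {x y : C} (𝔭 : PrimeSpectrum C),
    𝔭 ∈ Set.range (PrimeSpectrum.comap (φ : C →+* D)) → (∃ a b t, Dec (φ x) (φ y) a b t) →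
    ∃ N : C, N ∉ 𝔭.asIdeal ∧ ∃ a b t, Dec (algebraMap C (Localization.Away N) x)
      (algebraMap C (Localization.Away N) y) a b t
  desc : ∀ {C D : Type u} [CommRing C] [Algebra R C] [CommRing D] [Algebra R D]
    (φ : C →ₐ[R] D), (φ : C →+* D).FaithfullyFlat → ∀ {x y a b : C} {t : T C},
    Dec (φ x) (φ y) (φ a) (φ b) (map φ t) → Dec x y a b t

attribute [instance] RSys.grp

variable {R : Type u} [CommRing R]

namespace RSys

/-- the opposite system -/
def op (S : RSys R) : RSys R where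
  T := S.T
  map := S.map
  ch := S.ch
  ch_map := S.ch_map
  Dec x y a b t := S.Dec y x b a t
  uniq h h' := by
    obtain ⟨h1, h2, h3⟩ := S.uniq h h'
    exact ⟨h2, h1, h3⟩
  nat φ _ _ _ _ _ h := S.nat φ h
  zero_left y := S.zero_right y
  zero_right x := S.zero_left x
  e1 := by
    intro C _ _ x x' y a' b' a b t' t h1 h2
    have := S.e2 h1 h2
    rwa [add_comm x' x, add_comm b', mul_comm t'] at this
  e2 := by
    intro C _ _ x y y' a' b' a b t' t h1 h2
    have := S.e1 h1 h2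
    rwa [add_comm y' y, add_comm _ a, mul_comm t'] at this
  equi z _ _ _ _ _ h := by
    have := S.equi z⁻¹ h
    rwa [inv_inv] at this
  good_of h := by
    obtain ⟨a, b, t, h⟩ := S.good_of (fun 𝔭 => by
      obtain ⟨D, i1, i2, φ, h1, a, b, t, h2⟩ := h 𝔭
      exact ⟨D, i1, i2, φ, h1, b, a, t, h2⟩)
    exact ⟨b, a, t, h⟩
  good_open φ _ _ 𝔭 h1 h := by
    obtain ⟨N, hN, a, b, t, h⟩ := S.good_open φ 𝔭 h1 (by
      obtain ⟨a, b, t, h⟩ := h
      exact ⟨b, a, t, h⟩)
    exact ⟨N, hN, b, a, t, h⟩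
  desc φ hφ _ _ _ _ _ h := S.desc φ hφ h

variable (S : RSys R)

section basic

variable {C : Type u} [CommRing C] [Algebra R C]

/-- It suffices to check the decomposition modulo all prime ideals. -/
lemma good_of_quot {x y : C} (h : ∀ 𝔭 : PrimeSpectrum C, ∃ a b t,
    S.Dec (Ideal.Quotient.mk 𝔭.asIdeal x) (Ideal.Quotient.mk 𝔭.asIdeal y) a b t) :
    ∃ a b t, S.Dec x y a b t := by
  refine S.good_of fun 𝔭 => ?_
  refine ⟨C ⧸ 𝔭.asIdeal, inferInstance, inferInstance, Ideal.Quotient.mkₐ R 𝔭.asIdeal, ?_, h 𝔭⟩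
  refine ⟨⊥, ?_⟩
  ext c
  change Ideal.Quotient.mk 𝔭.asIdeal c ∈ (⊥ : Ideal (C ⧸ 𝔭.asIdeal)) ↔ c ∈ 𝔭.asIdeal
  rw [Ideal.mem_bot, Ideal.Quotient.eq_zero_iff_mem]

lemma good_of_nil_left {x y : C} (h : IsNilpotent x) : ∃ a b t, S.Dec x y a b t := by
  refine S.good_of_quot fun 𝔭 => ?_
  have h1 : Ideal.Quotient.mk 𝔭.asIdeal x = 0 := by
    rw [Ideal.Quotient.eq_zero_iff_mem]
    obtain ⟨n, hn⟩ := h
    exact 𝔭.2.mem_of_pow_mem n (by rw [hn]; exact zero_mem _)
  rw [h1]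
  exact ⟨_, _, _, S.zero_left _⟩

lemma good_of_nil_right {x y : C} (h : IsNilpotent y) : ∃ a b t, S.Dec x y a b t := by
  refine S.good_of_quot fun 𝔭 => ?_
  have h1 : Ideal.Quotient.mk 𝔭.asIdeal y = 0 := by
    rw [Ideal.Quotient.eq_zero_iff_mem]
    obtain ⟨n, hn⟩ := h
    exact 𝔭.2.mem_of_pow_mem n (by rw [hn]; exact zero_mem _)
  rw [h1]
  exact ⟨_, _, _, S.zero_right _⟩

/-- `A(v, 1)` is a unit. -/
lemma isUnit_of_dec {v w b : C} {t : S.T C} (h : S.Dec v 1 w b t) : IsUnit w := by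
  by_contra hw
  obtain ⟨m, hm, hwm⟩ := exists_max_ideal_of_mem_nonunits hw
  let φ : C →ₐ[R] C ⧸ m := Ideal.Quotient.mkₐ R m
  have h0 : φ w = 0 := Ideal.Quotient.eq_zero_iff_mem.mpr hwm
  have h1 := S.nat φ h
  rw [h0, map_one] at h1
  have h2 := S.e1 h1 (S.zero_right (-φ v))
  rw [neg_add_cancel] at h2
  have h3 := (S.uniq h2 (S.zero_left 1)).1
  exact zero_ne_one h3

/-- the basic functional equation -/
lemma e1' {u v b w' b' : C} {w : Cˣ} {t t' : S.T C} (h : S.Dec v 1 w b t)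
    (h' : S.Dec (u * w) 1 w' b' t') :
    S.Dec (u + v) 1 (w * w') (((S.ch t)⁻¹ : Cˣ) * ((w⁻¹ : Cˣ) * b') + b) (t' * t) := by
  have h1 := S.equi w⁻¹ h'
  have e1 : ((w⁻¹ : Cˣ) : C) * (u * w) = u := by
    rw [mul_comm u, ← mul_assoc, Units.inv_mul, one_mul]
  rw [inv_inv, e1, mul_one] at h1
  exact S.e1 h h1

end basic

end RSys

end Groth.Agent.Sga3.H811.Sys
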