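import Groth.Agent.Sga3.H811.Lift
import Groth.Agent.Sga3.H811.Sys
import Groth.Agent.Sga3B.MaxTorNear900

/-!
# The abstract rank one system of a torus and a pair of root homomorphisms over `Spec R ⟶ S`
-/

set_option autoImplicit false
universe u
open CategoryTheory MonoidalCategory CartesianMonoidalCategory MonObj GrpObj AlgebraicGeometry Limits

namespace Groth.Agent.Sga3.H811.Mk

open Groth.Agent.Sga3B.GaPts Groth.Agent.Sga3.H811.Pts Groth.Agent.Sga3.H811.Lift
open Groth.Agent.Sga3.H811.Sys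

section X

variable {S : Scheme.{u}} {G T : Over S} [GrpObj G] [GrpObj T] {i : T ⟶ G} {α : T ⟶ Red.Gm S}
  {pp pm : Red.Ga S ⟶ G}

omit [GrpObj T] in
/-- `p₊(x) p₋(y)` is in the cell iff it is so set-theoretically. -/
lemma good_iff [IsOpenImmersion (cell i pp pm).left] {X : Over S} {x y : Γ(X.left, ⊤)} :
    (∃ a b t, DecX i pp pm X x y a b t) ↔
      Set.range ((gaPt X x ≫ pp) * (gaPt X y ≫ pm)).left ⊆ Set.range (cell i pp pm).left := by
  constructor
  · rintro ⟨a, b, t, h⟩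
    unfold DecX at h
    rw [h, ← lift_cell]
    rintro _ ⟨z, rfl⟩
    rw [Over.comp_left, Scheme.Hom.comp_apply]
    exact ⟨_, rfl⟩
  · intro h
    let w : X ⟶ (Red.Ga S ⊗ T) ⊗ Red.Ga S := Over.homMk (IsOpenImmersion.lift (cell i pp pm).left _ h) (by
      rw [← Over.w (cell i pp pm), IsOpenImmersion.lift_fac_assoc, Over.w])
    have hw : w ≫ cell i pp pm = (gaPt X x ≫ pp) * (gaPt X y ≫ pm) := by
      apply Over.OverMorphism.ext
      exact IsOpenImmersion.lift_fac _ _ _
    refine ⟨Red.gaFn (w ≫ fst _ _ ≫ fst _ _), Red.gaFn (w ≫ snd _ _), w ≫ fst _ _ ≫ snd _ _, ?_⟩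
    unfold DecX
    rw [gaPt_gaFn, gaPt_gaFn, ← comp_cell, hw]

/-- equivariance under the multiplicative group -/
lemma equi [IsMonHom i] [IsMonHom α] (hpp : NormP i α pp) (hpm : NormM i α pm)
    (hT : Red.IsTorus T) (hα : ∀ s : S, (Over.pullback (Red.geomPt s)).map α ≠ 1)
    {X : Over S} {x y a b : Γ(X.left, ⊤)} {t : X ⟶ T} (z : Γ(X.left, ⊤)ˣ)
    (h : DecX i pp pm X x y a b t) :
    DecX i pp pm X (z * x) ((z⁻¹ : Γ(X.left, ⊤)ˣ) * y) ((z⁻¹ : Γ(X.left, ⊤)ˣ) * a) (z * b) t := by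
  unfold DecX
  apply Over.OverMorphism.ext
  refine eq_of_flat_family _ _ fun p => ?_
  obtain ⟨X', f, t₀, hf, hp, ht₀⟩ := exists_lift hT α hα X (gmPt X z) p
  refine ⟨X'.left, f.left, hf, hp, ?_⟩
  have hz : Red.gmFn (t₀ ≫ α) = f.left.appTop z := by
    rw [ht₀, gmFn_comp, gmFn_gmPt]
  have hz' : f.left.appTop ((z⁻¹ : Γ(X.left, ⊤)ˣ) : Γ(X.left, ⊤)) * f.left.appTop z = 1 := by
    rw [← map_mul, Units.inv_mul, map_one]
  have h1 := (h.nat f).equiT hpp hpm (fun X t t' => Groth.Agent.Sga3B.MaxTorNear900.mul_comm_of_isTorus hT X t t') t₀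
    (x' := f.left.appTop (z * x)) (y' := f.left.appTop ((z⁻¹ : Γ(X.left, ⊤)ˣ) * y))
    (a' := f.left.appTop ((z⁻¹ : Γ(X.left, ⊤)ˣ) * a)) (b' := f.left.appTop (z * b))
    (by rw [hz, map_mul]) (by rw [hz, map_mul, mul_right_comm, hz', _root_.one_mul])
    (by rw [hz, map_mul]) (by rw [hz, map_mul, mul_right_comm, hz', _root_.one_mul])
  unfold DecX at h1
  rw [← comp_gaPt, ← comp_gaPt, ← comp_gaPt, ← comp_gaPt, Category.assoc, Category.assoc,
    Category.assoc, Category.assoc, Category.assoc, ← MonObj.comp_mul, ← MonObj.comp_mul,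
    ← MonObj.comp_mul] at h1
  exact congrArg CommaMorphism.left h1

end X

section aff

variable {S : Scheme.{u}} {R : Type u} [CommRing R] (s : Spec (CommRingCat.of R) ⟶ S)

/-- `Spec B` over `S` for an `R`-algebra `B` and `s : Spec R ⟶ S`. -/
noncomputable abbrev tB (B : Type u) [CommRing B] [Algebra R B] : Over S :=
  Over.mk (Spec.map (CommRingCat.ofHom (algebraMap R B)) ≫ s)

variable {B C : Type u} [CommRing B] [Algebra R B] [CommRing C] [Algebra R C]

/-- functoriality of `tB` -/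
noncomputable def tMap (φ : B →ₐ[R] C) : tB s C ⟶ tB s B :=
  Over.homMk (Spec.map (CommRingCat.ofHom (φ : B →+* C))) (by
    simp only [Over.mk_left, Over.mk_hom]
    rw [← Category.assoc, ← Spec.map_comp, ← CommRingCat.ofHom_comp, AlgHom.comp_algebraMap])

@[simp] lemma tMap_left (φ : B →ₐ[R] C) :
    (tMap s φ).left = Spec.map (CommRingCat.ofHom (φ : B →+* C)) := rfl

/-- elements of `B` are the global functions on `Spec B` -/
noncomputable def fe (B : Type u) [CommRing B] [Algebra R B] : B ≃+* Γ((tB s B).left, ⊤) :=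
  (Scheme.ΓSpecIso (CommRingCat.of B)).symm.commRingCatIsoToRingEquiv

lemma fe_nat (φ : B →ₐ[R] C) (x : B) : (tMap s φ).left.appTop (fe s B x) = fe s C (φ x) := by
  have h := congrArg CommRingCat.Hom.hom
    (Scheme.ΓSpecIso_inv_naturality (CommRingCat.ofHom (φ : B →+* C)))
  exact (DFunLike.congr_fun h x).symm

end aff

lemma exists_basic {C : Type u} [CommRing C] {Y : Scheme.{u}} (g : Spec (CommRingCat.of C) ⟶ Y)
    {Ω : Set Y} (hΩ : IsOpen Ω) (p : PrimeSpectrum C) (hp : g p ∈ Ω) :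
    ∃ N : C, N ∉ p.asIdeal ∧ ∀ q : PrimeSpectrum C, N ∉ q.asIdeal → g q ∈ Ω := by
  have hopen : IsOpen ((fun q : PrimeSpectrum C => g q) ⁻¹' Ω) := hΩ.preimage g.continuous
  obtain ⟨_, ⟨N, rfl⟩, hN1, hN2⟩ := PrimeSpectrum.isTopologicalBasis_basic_opens.exists_subset_of_mem_open
    (a := p) hp hopen
  exact ⟨N, hN1, fun q hq => hN2 hq⟩

lemma away_notMem {C : Type u} [CommRing C] (N : C) (q : PrimeSpectrum (Localization.Away N)) :
    N ∉ (PrimeSpectrum.comap (algebraMap C (Localization.Away N)) q).asIdeal := fun h =>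
  q.2.ne_top (Ideal.eq_top_of_isUnit_mem _ h (IsLocalization.Away.algebraMap_isUnit N))

/-- the hypotheses of the rank one theorem -/
structure RHyp {S : Scheme.{u}} {G T : Over S} [GrpObj G] [GrpObj T] (i : T ⟶ G) (α : T ⟶ Red.Gm S)
    (pp pm : Red.Ga S ⟶ G) : Prop where
  mi : IsMonHom i
  ma : IsMonHom α
  mpp : IsMonHom pp
  mpm : IsMonHom pm
  hT : Red.IsTorus T
  hα : ∀ s : S, (Over.pullback (Red.geomPt s)).map α ≠ 1
  hpp : NormP i α pp
  hpm : NormM i α pm
  hΩ : IsOpenImmersion (cell i pp pm).left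

section sys

variable {S : Scheme.{u}} {G T : Over S} [GrpObj G] [GrpObj T] {i : T ⟶ G} {α : T ⟶ Red.Gm S}
  {pp pm : Red.Ga S ⟶ G} (H : RHyp i α pp pm) {R : Type u} [CommRing R]
  (s : Spec (CommRingCat.of R) ⟶ S)
include H

lemma RHyp.mono_cell : Mono (cell i pp pm) := by
  have := H.hΩ
  exact Over.mono_of_mono_left (cell i pp pm)

lemma RHyp.comm {X : Over S} (t t' : X ⟶ T) : t * t' = t' * t :=
  Groth.Agent.Sga3B.MaxTorNear900.mul_comm_of_isTorus H.hT X t t'

omit H [GrpObj T] in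
lemma good_nat_iff [IsOpenImmersion (cell i pp pm).left] {B C : Type u} [CommRing B] [Algebra R B]
    [CommRing C] [Algebra R C] (φ : B →ₐ[R] C) (x y : B) :
    (∃ a b t, DecX i pp pm (tB s C) (fe s C (φ x)) (fe s C (φ y)) a b t) ↔
      ∀ q : PrimeSpectrum C, ((gaPt (tB s B) (fe s B x) ≫ pp) * (gaPt (tB s B) (fe s B y) ≫ pm)).left
        (PrimeSpectrum.comap (φ : B →+* C) q) ∈ Set.range (cell i pp pm).left := by
  rw [good_iff, ← fe_nat s φ, ← fe_nat s φ, ← comp_gaPt, ← comp_gaPt, Category.assoc, Category.assoc,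
    ← MonObj.comp_mul, Over.comp_left]
  constructor
  · intro h q
    have := h ⟨q, rfl⟩
    rw [Scheme.Hom.comp_apply] at this
    exact this
  · rintro h _ ⟨q, rfl⟩
    rw [Scheme.Hom.comp_apply]
    exact h q

/-- the group of points of the torus is commutative -/
@[reducible] noncomputable def grpT (X : Over S) : CommGroup (X ⟶ T) :=
  { (inferInstance : Group (X ⟶ T)) with
    mul_comm := fun t t' => H.comm t t' }

omit H [GrpObj T] in
lemma gmFn_hom_one [GrpObj T] [h : IsMonHom α] (X : Over S) : Red.gmFn ((1 : X ⟶ T) ≫ α) = 1 := by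
  have h1 := MonObj.one_comp (X := X) α
  rw [h1, gmFn_one]

omit H [GrpObj T] in
lemma gmFn_hom_mul [GrpObj T] [h : IsMonHom α] {X : Over S} (t t' : X ⟶ T) :
    Red.gmFn ((t * t') ≫ α) = Red.gmFn (t ≫ α) * Red.gmFn (t' ≫ α) := by
  have h1 := MonObj.mul_comp t t' α
  rw [h1, gmFn_mul]

/-- the character on points, as a monoid homomorphism -/
noncomputable def chHom (C : Type u) [CommRing C] [Algebra R C] : (tB s C ⟶ T) →* C where
  toFun t := (fe s C).symm (Red.gmFn (t ≫ α))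
  map_one' := by
    rw [gmFn_hom_one (h := H.ma), map_one]
  map_mul' t t' := by
    rw [gmFn_hom_mul (h := H.ma), map_mul]

lemma fe_chHom {C : Type u} [CommRing C] [Algebra R C] (t : tB s C ⟶ T) :
    fe s C ((MonoidHom.toHomUnits (chHom H s C) t : Cˣ) : C) = Red.gmFn (t ≫ α) := by
  rw [MonoidHom.coe_toHomUnits]
  exact (fe s C).apply_symm_apply _

lemma fe_chHom_mul {C : Type u} [CommRing C] [Algebra R C] (t : tB s C ⟶ T) (b : C) :
    fe s C b = Red.gmFn (t ≫ α) * fe s C (((MonoidHom.toHomUnits (chHom H s C) t)⁻¹ : Cˣ) * b) := by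
  rw [← fe_chHom H s, ← map_mul, Units.mul_inv_cancel_left]

/-- the rank one system over `s : Spec R ⟶ S` -/
noncomputable def sys : RSys R where
  T C _ _ := tB s C ⟶ T
  grp C _ _ := grpT H (tB s C)
  map φ :=
    { toFun := fun t => tMap s φ ≫ t
      map_one' := MonObj.comp_one _
      map_mul' := fun t t' => MonObj.comp_mul _ _ _ }
  ch {C} _ _ := MonoidHom.toHomUnits (chHom H s C)
  ch_map {C D} _ _ _ _ φ t := by
    apply (fe s D).injective
    refine (fe_chHom H s _).trans ?_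
    refine Eq.trans ?_ (fe_nat s φ _)
    refine Eq.trans ?_ (congrArg _ (fe_chHom H s t).symm)
    change Red.gmFn ((tMap s φ ≫ t) ≫ α) = _
    rw [Category.assoc, gmFn_comp]
  Dec {C} _ _ x y a b t := DecX i pp pm (tB s C) (fe s C x) (fe s C y) (fe s C a) (fe s C b) t
  uniq {C} _ _ _ _ _ _ _ _ _ _ h h' := by
    have := H.mono_cell
    obtain ⟨h1, h2, h3⟩ := h.uniq h'
    exact ⟨(fe s C).injective h1, (fe s C).injective h2, h3⟩
  nat φ _ _ _ _ _ h := by
    have h1 := h.nat (tMap s φ)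
    simp only [fe_nat] at h1
    exact h1
  zero_left {C} _ _ y := by
    have := H.mi
    have := H.mpp
    rw [map_zero]
    exact DecX.zero_left (tB s C) (fe s C y)
  zero_right {C} _ _ x := by
    have := H.mi
    have := H.mpm
    rw [map_zero]
    exact DecX.zero_right (tB s C) (fe s C x)
  e1 {C} _ _ x x' y a' b' a b t' t h' h := by
    have := H.mi
    have := H.mpp
    rw [map_add, map_add]
    exact DecX.e1 H.hpp h' h (fe_chHom_mul H s t' b)
  e2 {C} _ _ x y y' a' b' a b t' t h h' := by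
    have := H.mi
    have := H.mpm
    rw [map_add, map_add]
    exact DecX.e2 H.hpm h h' ((mul_comm _ _).trans (fe_chHom_mul H s t a').symm)
  equi {C} _ _ z x y a b t h := by
    have := H.mi
    have := H.ma
    have h1 := equi H.hpp H.hpm H.hT H.hα (Units.map (fe s C : C →* Γ((tB s C).left, ⊤)) z) h
    rw [map_mul, map_mul, map_mul, map_mul]
    exact h1
  good_of := by
    intro C _ _ x y h
    have hΩ := H.hΩ
    have h1 : ∃ a b t, DecX i pp pm (tB s C) (fe s C x) (fe s C y) a b t := by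
      rw [good_iff]
      rintro _ ⟨p, rfl⟩
      obtain ⟨D, _, _, φ, ⟨q, hq⟩, a, b, t, h2⟩ := h p
      have h3 := (good_nat_iff s φ x y).1 ⟨_, _, _, h2⟩ q
      rw [hq] at h3
      exact h3
    obtain ⟨a, b, t, h1⟩ := h1
    obtain ⟨a, rfl⟩ := (fe s C).surjective a
    obtain ⟨b, rfl⟩ := (fe s C).surjective b
    exact ⟨a, b, t, h1⟩
  good_open := by
    intro C D _ _ _ _ φ x y p hp h
    have hΩ := H.hΩ
    obtain ⟨q, rfl⟩ := hp
    obtain ⟨a, b, t, h⟩ := h
    have h1 := (good_nat_iff s φ x y).1 ⟨_, _, _, h⟩ q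
    obtain ⟨N, hN1, hN2⟩ := exists_basic
      ((gaPt (tB s C) (fe s C x) ≫ pp) * (gaPt (tB s C) (fe s C y) ≫ pm)).left
      (cell i pp pm).left.isOpenEmbedding.isOpen_range _ h1
    refine ⟨N, hN1, ?_⟩
    have h2 := (good_nat_iff s (IsScalarTower.toAlgHom R C (Localization.Away N)) x y).2 (fun q' =>
      hN2 _ (away_notMem N q'))
    obtain ⟨a, b, t, h2⟩ := h2
    obtain ⟨a, rfl⟩ := (fe s (Localization.Away N)).surjective a
    obtain ⟨b, rfl⟩ := (fe s (Localization.Away N)).surjective b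
    exact ⟨a, b, t, h2⟩
  desc := by
    intro C D _ _ _ _ φ hφ x y a b t h
    obtain ⟨h1, h2⟩ := flat_surjective_of (CommRingCat.ofHom (φ : C →+* D)) hφ
    have : Epi (tMap s φ).left := Flat.epi_of_flat_of_surjective
      (Spec.map (CommRingCat.ofHom (φ : C →+* D)))
    apply DecX.desc (tMap s φ)
    rw [fe_nat, fe_nat, fe_nat, fe_nat]
    exact h

end sys

end Groth.Agent.Sga3.H811.Mk
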