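import Groth.Agent.Sga3B.GaPts
import Groth.Agent.Sga3B.DsBc
import Mathlib.AlgebraicGeometry.Morphisms.OpenImmersion

/-!
# The cell attached to a torus and a pair of root homomorphisms, on points

`cell i pp pm : (𝔾_a ⊗ T) ⊗ 𝔾_a ⟶ G`, `(y, t, x) ↦ p₋(y) i(t) p₊(x)`.
`DecX i pp pm X x y a b t` : `p₊(x) p₋(y) = p₋(a) i(t) p₊(b)` as `X`-valued points of `G`.
-/

set_option autoImplicit false
universe u
open CategoryTheory MonoidalCategory CartesianMonoidalCategory MonObj GrpObj AlgebraicGeometry Limits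

namespace Groth.Agent.Sga3.H811.Pts

open Groth.Agent.Sga3B.DSPts Groth.Agent.Sga3B.GaPts

section gm

variable {S : Scheme.{u}}

/-- the point of `𝔾_m` with coordinate `z` -/
noncomputable def gmPt (X : Over S) (z : Γ(X.left, ⊤)ˣ) : X ⟶ Red.Gm S :=
  dsEquiv X ℤ ((Units.coeHom _).comp (zpowersHom _ z))

@[simp] lemma gmFn_gmPt (X : Over S) (z : Γ(X.left, ⊤)ˣ) : Red.gmFn (gmPt X z) = z := by
  rw [Groth.Agent.Sga3B.GaPts.gmFn_eq, gmPt, dsChar_dsEquiv]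
  simp [zpowersHom_apply]

lemma gmFn_injective (X : Over S) : Function.Injective (Red.gmFn : (X ⟶ Red.Gm S) → _) := by
  intro x y h
  rw [Groth.Agent.Sga3B.GaPts.gmFn_eq, Groth.Agent.Sga3B.GaPts.gmFn_eq] at h
  rw [← dsEquiv_dsChar x, ← dsEquiv_dsChar y]
  congr 1
  exact MonoidHom.ext_mint h

lemma gmFn_mul {X : Over S} (x y : X ⟶ Red.Gm S) : Red.gmFn (x * y) = Red.gmFn x * Red.gmFn y := by
  rw [Groth.Agent.Sga3B.GaPts.gmFn_eq, Groth.Agent.Sga3B.GaPts.gmFn_eq,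
    Groth.Agent.Sga3B.GaPts.gmFn_eq, dsChar_mul]
  rfl

@[simp] lemma gmFn_one {X : Over S} : Red.gmFn (1 : X ⟶ Red.Gm S) = 1 := by
  have h : (1 : X ⟶ Red.Gm S) = gmPt X 1 := by
    rw [gmPt]
    have : ((Units.coeHom Γ(X.left, ⊤)).comp (zpowersHom _ 1)) = 1 := by
      refine MonoidHom.ext_mint ?_
      simp
    rw [this, map_one]
  rw [h, gmFn_gmPt, Units.val_one]

lemma isUnit_gmFn {X : Over S} (x : X ⟶ Red.Gm S) : IsUnit (Red.gmFn x) := by
  have h : Red.gmFn x * Red.gmFn x⁻¹ = 1 := by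
    rw [← gmFn_mul, mul_inv_cancel, gmFn_one]
  exact IsUnit.of_mul_eq_one _ h

lemma gmFn_comp {X X' : Over S} (h : X' ⟶ X) (x : X ⟶ Red.Gm S) :
    Red.gmFn (h ≫ x) = h.left.appTop (Red.gmFn x) := by
  rw [Red.gmFn, Red.gmFn, Over.comp_left, Category.assoc, Scheme.Hom.comp_appTop]
  rfl

lemma gmFn_pow {X : Over S} (x : X ⟶ Red.Gm S) (n : ℕ) : Red.gmFn (x ^ n) = Red.gmFn x ^ n := by
  induction n with
  | zero => rw [_root_.pow_zero, _root_.pow_zero, gmFn_one]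
  | succ n ih => rw [_root_.pow_succ, _root_.pow_succ, gmFn_mul, ih]

end gm

section cell

variable {S : Scheme.{u}} {G T : Over S} [GrpObj G] [GrpObj T] (i : T ⟶ G)
  (pp pm : Red.Ga S ⟶ G)

/-- `(y, t, x) ↦ p₋(y) i(t) p₊(x)` -/
noncomputable def cell : (Red.Ga S ⊗ T) ⊗ Red.Ga S ⟶ G :=
  ((pm ⊗ₘ i) ⊗ₘ pp) ≫ (μ[G] ▷ G) ≫ μ[G]

omit [GrpObj T] in
lemma lift_cell {X : Over S} (a b : X ⟶ Red.Ga S) (t : X ⟶ T) :
    lift (lift a t) b ≫ cell i pp pm = (a ≫ pm) * (t ≫ i) * (b ≫ pp) := by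
  unfold cell
  simp [Hom.mul_def, ← Category.assoc]
  exact (_root_.mul_assoc (a ≫ pm) (t ≫ i) (b ≫ pp)).symm

omit [GrpObj T] in
lemma comp_cell {X : Over S} (w : X ⟶ (Red.Ga S ⊗ T) ⊗ Red.Ga S) :
    w ≫ cell i pp pm = ((w ≫ fst _ _ ≫ fst _ _) ≫ pm) * ((w ≫ fst _ _ ≫ snd _ _) ≫ i) *
      ((w ≫ snd _ _) ≫ pp) := by
  rw [← lift_cell]
  congr 1
  apply CartesianMonoidalCategory.hom_ext
  · apply CartesianMonoidalCategory.hom_ext <;> simp
  · simp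

end cell

section dec

variable {S : Scheme.{u}} {G T : Over S} [GrpObj G] [GrpObj T] (i : T ⟶ G) (α : T ⟶ Red.Gm S)
  (pp pm : Red.Ga S ⟶ G)

/-- `p₊(x) p₋(y) = p₋(a) i(t) p₊(b)` as `X`-valued points of `G`. -/
def DecX (X : Over S) (x y a b : Γ(X.left, ⊤)) (t : X ⟶ T) : Prop :=
  (gaPt X x ≫ pp) * (gaPt X y ≫ pm) = (gaPt X a ≫ pm) * (t ≫ i) * (gaPt X b ≫ pp)

variable {i pp pm}

omit [GrpObj T] in
lemma DecX.nat {X X' : Over S} (f : X' ⟶ X) {x y a b : Γ(X.left, ⊤)} {t : X ⟶ T}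
    (h : DecX i pp pm X x y a b t) :
    DecX i pp pm X' (f.left.appTop x) (f.left.appTop y) (f.left.appTop a) (f.left.appTop b)
      (f ≫ t) := by
  have h1 := congrArg (fun k => f ≫ k) h
  simp only [MonObj.comp_mul] at h1
  rw [← Category.assoc, ← Category.assoc, ← Category.assoc, ← Category.assoc, ← Category.assoc,
    comp_gaPt, comp_gaPt, comp_gaPt, comp_gaPt] at h1
  exact h1

omit [GrpObj T] in
/-- descent along flat surjective (more generally epimorphic) morphisms -/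
lemma DecX.desc {X X' : Over S} (f : X' ⟶ X) [Epi f.left] {x y a b : Γ(X.left, ⊤)} {t : X ⟶ T}
    (h : DecX i pp pm X' (f.left.appTop x) (f.left.appTop y) (f.left.appTop a) (f.left.appTop b)
      (f ≫ t)) : DecX i pp pm X x y a b t := by
  unfold DecX at h ⊢
  rw [← comp_gaPt, ← comp_gaPt, ← comp_gaPt, ← comp_gaPt, Category.assoc, Category.assoc,
    Category.assoc, Category.assoc, Category.assoc, ← MonObj.comp_mul, ← MonObj.comp_mul,
    ← MonObj.comp_mul] at h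
  have : Epi f := Over.epi_of_epi_left f
  exact (cancel_epi f).1 h

omit [GrpObj T] in
lemma DecX.uniq [Mono (cell i pp pm)] {X : Over S} {x y a b a' b' : Γ(X.left, ⊤)} {t t' : X ⟶ T}
    (h : DecX i pp pm X x y a b t) (h' : DecX i pp pm X x y a' b' t') : a = a' ∧ b = b' ∧ t = t' := by
  have h1 := h.symm.trans h'
  rw [← lift_cell, ← lift_cell, cancel_mono] at h1
  have h2 := congrArg (fun k => k ≫ fst _ _ ≫ fst _ _) h1
  have h3 := congrArg (fun k => k ≫ fst _ _ ≫ snd _ _) h1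
  have h4 := congrArg (fun k => k ≫ snd _ _) h1
  simp only [lift_fst_assoc, lift_fst, lift_snd] at h2 h3 h4
  refine ⟨?_, ?_, h3⟩
  · have := congrArg Red.gaFn h2
    simpa using this
  · have := congrArg Red.gaFn h4
    simpa using this

lemma DecX.zero_left [IsMonHom pp] [IsMonHom i] (X : Over S) (y : Γ(X.left, ⊤)) :
    DecX i pp pm X 0 y y 0 1 := by
  have h0 : gaPt X 0 = 1 := by
    apply gaFn_injective
    rw [gaFn_gaPt, gaFn_one]
  unfold DecX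
  rw [h0, MonObj.one_comp, MonObj.one_comp, _root_.one_mul, _root_.mul_one, _root_.mul_one]

lemma DecX.zero_right [IsMonHom pm] [IsMonHom i] (X : Over S) (x : Γ(X.left, ⊤)) :
    DecX i pp pm X x 0 0 x 1 := by
  have h0 : gaPt X 0 = 1 := by
    apply gaFn_injective
    rw [gaFn_gaPt, gaFn_one]
  unfold DecX
  rw [h0, MonObj.one_comp, MonObj.one_comp, _root_.one_mul, _root_.mul_one, _root_.one_mul]

/-- the action of the torus on the positive root group -/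
def NormP (i : T ⟶ G) (α : T ⟶ Red.Gm S) (pp : Red.Ga S ⟶ G) : Prop :=
  ∀ (X : Over S) (t : X ⟶ T) (x : X ⟶ Red.Ga S), ∃ x' : X ⟶ Red.Ga S,
      x' ≫ pp = (t ≫ i) * (x ≫ pp) * (t ≫ i)⁻¹ ∧ Red.gaFn x' = Red.gmFn (t ≫ α) * Red.gaFn x

/-- the action of the torus on the negative root group -/
def NormM (i : T ⟶ G) (α : T ⟶ Red.Gm S) (pm : Red.Ga S ⟶ G) : Prop :=
  ∀ (X : Over S) (t : X ⟶ T) (y : X ⟶ Red.Ga S), ∃ y' : X ⟶ Red.Ga S,
      y' ≫ pm = (t ≫ i) * (y ≫ pm) * (t ≫ i)⁻¹ ∧ Red.gaFn y' * Red.gmFn (t ≫ α) = Red.gaFn y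

variable {α}

omit [GrpObj T] in
lemma NormP.comm (h : NormP i α pp) {X : Over S} (t : X ⟶ T) (x z : Γ(X.left, ⊤))
    (hz : z = Red.gmFn (t ≫ α) * x) :
    (t ≫ i) * (gaPt X x ≫ pp) = (gaPt X z ≫ pp) * (t ≫ i) := by
  obtain ⟨x', h1, h2⟩ := h X t (gaPt X x)
  rw [gaFn_gaPt, ← hz] at h2
  rw [← h2, gaPt_gaFn, h1, inv_mul_cancel_right]

omit [GrpObj T] in
lemma NormM.comm (h : NormM i α pm) {X : Over S} (t : X ⟶ T) (y z : Γ(X.left, ⊤))
    (hz : z * Red.gmFn (t ≫ α) = y) :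
    (t ≫ i) * (gaPt X y ≫ pm) = (gaPt X z ≫ pm) * (t ≫ i) := by
  obtain ⟨y', h1, h2⟩ := h X t (gaPt X y)
  rw [gaFn_gaPt, ← hz] at h2
  have h3 := (isUnit_gmFn (t ≫ α)).mul_right_cancel h2
  rw [← h3, gaPt_gaFn, h1, inv_mul_cancel_right]

variable [IsMonHom i] [IsMonHom pp] [IsMonHom pm] [IsMonHom α]

omit [IsMonHom pm] [IsMonHom α] in
lemma DecX.e1 (hpp : NormP i α pp) {X : Over S} {x x' y a' b' a b c : Γ(X.left, ⊤)}
    {t' t : X ⟶ T} (h' : DecX i pp pm X x' y a' b' t') (h : DecX i pp pm X x a' a b t)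
    (hc : b = Red.gmFn (t' ≫ α) * c) :
    DecX i pp pm X (x + x') y a (c + b') (t * t') := by
  unfold DecX at *
  rw [gaPt_add, MonObj.mul_comp, _root_.mul_assoc, h', ← _root_.mul_assoc, ← _root_.mul_assoc, h, gaPt_add,
    MonObj.mul_comp, MonObj.mul_comp, _root_.mul_assoc _ (gaPt X b ≫ pp), ← hpp.comm t' c b hc]
  simp only [_root_.mul_assoc]

omit [IsMonHom pp] [IsMonHom α] in
lemma DecX.e2 (hpm : NormM i α pm) {X : Over S} {x y y' a' b' a b c : Γ(X.left, ⊤)}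
    {t' t : X ⟶ T} (h : DecX i pp pm X x y a b t) (h' : DecX i pp pm X b y' a' b' t')
    (hc : c * Red.gmFn (t ≫ α) = a') :
    DecX i pp pm X x (y + y') (a + c) b' (t * t') := by
  unfold DecX at *
  rw [gaPt_add, MonObj.mul_comp, ← _root_.mul_assoc, h, _root_.mul_assoc, h', gaPt_add,
    MonObj.mul_comp, MonObj.mul_comp, _root_.mul_assoc _ (gaPt X c ≫ pm), ← _root_.mul_assoc (gaPt X c ≫ pm),
    ← hpm.comm t a' c hc]
  simp only [_root_.mul_assoc]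

omit [IsMonHom pp] [IsMonHom pm] [IsMonHom α] in
/-- equivariance under the torus -/
lemma DecX.equiT (hpp : NormP i α pp) (hpm : NormM i α pm)
    (hcomm : ∀ (X : Over S) (t t' : X ⟶ T), t * t' = t' * t) {X : Over S}
    {x y a b x' y' a' b' : Γ(X.left, ⊤)} {t : X ⟶ T} (h : DecX i pp pm X x y a b t) (t₀ : X ⟶ T)
    (hx : x' = Red.gmFn (t₀ ≫ α) * x) (hy : y' * Red.gmFn (t₀ ≫ α) = y)
    (hb : b' = Red.gmFn (t₀ ≫ α) * b) (ha : a' * Red.gmFn (t₀ ≫ α) = a) :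
    DecX i pp pm X x' y' a' b' t := by
  unfold DecX at *
  have e1 := hpp.comm t₀ x x' hx
  have e2 := hpm.comm t₀ y y' hy
  have e3 := hpp.comm t₀ b b' hb
  have e4 := hpm.comm t₀ a a' ha
  have e5 : (t₀ ≫ i) * (t ≫ i) = (t ≫ i) * (t₀ ≫ i) := by
    rw [← MonObj.mul_comp, ← MonObj.mul_comp, hcomm]
  apply mul_right_cancel (b := t₀ ≫ i)
  rw [_root_.mul_assoc, ← e2, ← _root_.mul_assoc, ← e1, _root_.mul_assoc, h,
    _root_.mul_assoc _ (gaPt X b' ≫ pp), ← e3, _root_.mul_assoc (gaPt X a' ≫ pm),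
    ← _root_.mul_assoc (t ≫ i), ← e5]
  rw [← _root_.mul_assoc (gaPt X a' ≫ pm), ← _root_.mul_assoc (gaPt X a' ≫ pm), ← e4]
  simp only [_root_.mul_assoc]

end dec

end Groth.Agent.Sga3.H811.Pts
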