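import Groth.Agent.Sga3.H811.Fld

/-!
# Change of base of the rank one system; the constant is a unit
-/

set_option autoImplicit false
universe u
open CategoryTheory MonoidalCategory CartesianMonoidalCategory MonObj GrpObj AlgebraicGeometry Limits

namespace Groth.Agent.Sga3.H811.Unit

open Groth.Agent.Sga3B Groth.Agent.Sga3B.DSPts Groth.Agent.Sga3B.GaPts Groth.Agent.Sga3B.RedIso
open Groth.Agent.Sga3.H811.Pts Groth.Agent.Sga3.H811.Lift Groth.Agent.Sga3.H811.Sys
open Groth.Agent.Sga3.H811.Mk Groth.Agent.Sga3.H811.Fld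

variable {S : Scheme.{u}} {G T : Over S} [GrpObj G] [GrpObj T] {i : T ⟶ G} {α : T ⟶ Red.Gm S}
  {pp pm : Red.Ga S ⟶ G} (H : RHyp i α pp pm)

section change

variable {R R' : Type u} [CommRing R] [CommRing R'] (ψ : R →+* R')
  {s : Spec (CommRingCat.of R) ⟶ S} {s' : Spec (CommRingCat.of R') ⟶ S}
  (hs : Spec.map (CommRingCat.ofHom ψ) ≫ s = s')
  {B B' : Type u} [CommRing B] [Algebra R B] [CommRing B'] [Algebra R' B'] (Φ : B →+* B')
  (hΦ : Φ.comp (algebraMap R B) = (algebraMap R' B').comp ψ)

/-- change of the base ring -/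
noncomputable def gMap : tB s' B' ⟶ tB s B :=
  Over.homMk (Spec.map (CommRingCat.ofHom Φ)) (by
    simp only [Over.mk_left, Over.mk_hom]
    rw [← hs, ← Category.assoc, ← Category.assoc, ← Spec.map_comp, ← Spec.map_comp,
      ← CommRingCat.ofHom_comp, ← CommRingCat.ofHom_comp, hΦ])

lemma fe_gMap (x : B) : (gMap ψ hs Φ hΦ).left.appTop (fe s B x) = fe s' B' (Φ x) := by
  have h := congrArg CommRingCat.Hom.hom
    (Scheme.ΓSpecIso_inv_naturality (CommRingCat.ofHom Φ))
  exact (DFunLike.congr_fun h x).symm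

lemma dec_change {x y a b : B} {t : tB s B ⟶ T} (h : (sys H s).Dec x y a b t) :
    (sys H s').Dec (Φ x) (Φ y) (Φ a) (Φ b) (gMap ψ hs Φ hΦ ≫ t) := by
  have h1 : DecX i pp pm (tB s B) (fe s B x) (fe s B y) (fe s B a) (fe s B b) t := h
  have h2 := h1.nat (gMap ψ hs Φ hΦ)
  rw [fe_gMap, fe_gMap, fe_gMap, fe_gMap] at h2
  exact h2

include hs in
/-- the constant is compatible with change of base -/
lemma a_change : (sys H s').a = ψ (sys H s).a := by
  let := ψ.toAlgebra
  obtain ⟨t, ht⟩ := (sys H s).dec_eps (C := DualNumber R) DualNumber.eps DualNumber.eps_mul_eps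
  obtain ⟨t', ht'⟩ := (sys H s').dec_eps (C := DualNumber R') DualNumber.eps DualNumber.eps_mul_eps
  let Φ : DualNumber R →ₐ[R] DualNumber R' := dl (Algebra.ofId R (DualNumber R')) DualNumber.eps
    DualNumber.eps_mul_eps
  have hΦ : (Φ : DualNumber R →+* DualNumber R').comp (algebraMap R (DualNumber R)) =
      (algebraMap R' (DualNumber R')).comp ψ := by
    rw [AlgHom.comp_algebraMap]
    rfl
  have h1 := dec_change H ψ hs (Φ : DualNumber R →+* DualNumber R') hΦ ht
  have h2 : Φ DualNumber.eps = DualNumber.eps := dl_eps _ _ _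
  have h3 : Φ ((sys H s).aC (DualNumber R)) = algebraMap R' (DualNumber R') (ψ (sys H s).a) := by
    have := RingHom.congr_fun hΦ (sys H s).a
    exact this
  have h4 : (Φ : DualNumber R →+* DualNumber R') DualNumber.eps = DualNumber.eps := h2
  rw [h4, map_one] at h1
  have h5 := ((sys H s').uniq h1 ht').1
  have h6 : (Φ : DualNumber R →+* DualNumber R') (1 - (sys H s).aC (DualNumber R) * DualNumber.eps) =
      1 - algebraMap R' (DualNumber R') (ψ (sys H s).a) * DualNumber.eps := by
    rw [map_sub, map_one, map_mul, h4]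
    congr 2
  rw [h6] at h5
  have h7 := congrArg TrivSqZeroExt.snd h5
  rw [RSys.aC] at h7
  simp [TrivSqZeroExt.algebraMap_eq_inl] at h7
  exact h7.symm

/-- the cocharacter is compatible with change of base -/
lemma coc_change (ha : IsUnit (sys H s).a) (ha' : IsUnit (sys H s').a) (z : Rˣ)
    (hid : ψ.comp (algebraMap R R) = (algebraMap R' R').comp ψ) :
    (sys H s').coc ha' (Units.map (ψ : R →* R') z) = gMap ψ hs ψ hid ≫ (sys H s).coc (C := R) ha z := by
  have h1 := dec_change H ψ hs ψ hid ((sys H s).dec_coc ha z)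
  rw [map_one] at h1
  have h2 : ψ ((sys H s).ai ha R * ((z : R) - 1)) = (sys H s').ai ha' R' * (ψ z - 1) := by
    rw [map_mul, map_sub, map_one]
    congr 1
    have e1 := (sys H s').ai_mul ha' (C := R')
    have e2 := congrArg ψ ((sys H s).ai_mul ha (C := R))
    have e3 : ψ ((sys H s).aC R) = (sys H s').aC R' := (a_change H ψ hs).symm
    rw [map_mul, map_one, e3] at e2
    have hu : IsUnit ((sys H s').aC R') := ha'
    exact hu.mul_right_cancel (e2.trans e1.symm)
  rw [h2] at h1
  have h3 := (sys H s').coc_unique ha' h1 (Units.map (ψ : R →* R') z) (by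
    change 1 + (sys H s').aC R' * ((sys H s').ai ha' R' * (ψ z - 1)) = ψ z
    linear_combination (ψ z - 1) * (sys H s').ai_mul ha' (C := R'))
  exact h3.symm

end change

section unit

/-- The non-commutation hypothesis. -/
def NC (pp pm : Red.Ga S ⟶ G) : Prop :=
  ∀ s : S, ∃ (X : Over (Spec (CommRingCat.of (AlgebraicClosure (S.residueField s)))))
      (x y : X ⟶ Red.bc (Red.geomPt s) (Red.Ga S)),
      (x ≫ (Over.pullback (Red.geomPt s)).map pp) * (y ≫ (Over.pullback (Red.geomPt s)).map pm) ≠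
        (y ≫ (Over.pullback (Red.geomPt s)).map pm) * (x ≫ (Over.pullback (Red.geomPt s)).map pp)

/-- Over an algebraically closed field the constant is non-zero. -/
lemma a_ne_zero_of_field (hnc : NC pp pm) {L : Type u} [Field L] [IsAlgClosed L]
    (s : Spec (CommRingCat.of L) ⟶ S) : (sys H s).a ≠ 0 := by
  obtain ⟨⟨x, v⟩, rfl⟩ := (Scheme.SpecToEquivOfField L S).symm.surjective s
  let := v.hom.toAlgebra
  let w : AlgebraicClosure (S.residueField x) →ₐ[S.residueField x] L :=
    IsAlgClosed.lift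
  have hw : Spec.map (CommRingCat.ofHom (w : AlgebraicClosure (S.residueField x) →+* L)) ≫ Red.geomPt x =
      (Scheme.SpecToEquivOfField L S).symm ⟨x, v⟩ := by
    change Spec.map _ ≫ Spec.map _ ≫ S.fromSpecResidueField x = Spec.map v ≫ S.fromSpecResidueField x
    rw [← Category.assoc, ← Spec.map_comp, ← CommRingCat.ofHom_comp, AlgHom.comp_algebraMap]
    rfl
  rw [a_change H _ hw]
  intro h
  exact Fld.a_ne_zero H x (hnc x) ((map_eq_zero _).mp h)

/-- The constant is a unit. -/
lemma isUnit_a (hnc : NC pp pm) {R : Type u} [CommRing R] (s : Spec (CommRingCat.of R) ⟶ S) :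
    IsUnit (sys H s).a := by
  by_contra hu
  obtain ⟨m, hm, ham⟩ := exists_max_ideal_of_mem_nonunits hu
  let := Ideal.Quotient.field m
  let ψ : R →+* AlgebraicClosure (R ⧸ m) :=
    (algebraMap (R ⧸ m) (AlgebraicClosure (R ⧸ m))).comp (Ideal.Quotient.mk m)
  have h1 := a_ne_zero_of_field H hnc (Spec.map (CommRingCat.ofHom ψ) ≫ s)
  rw [a_change H ψ rfl] at h1
  apply h1
  change algebraMap (R ⧸ m) (AlgebraicClosure (R ⧸ m)) (Ideal.Quotient.mk m (sys H s).a) = 0
  rw [Ideal.Quotient.eq_zero_iff_mem.mpr ham, map_zero]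

end unit

end Groth.Agent.Sga3.H811.Unit
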